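import Mathlib.RingTheory.NoetherNormalization
import Mathlib.RingTheory.Ideal.GoingUp
import Mathlib.FieldTheory.Minpoly.IsIntegrallyClosed
import Mathlib.RingTheory.Polynomial.UniqueFactorization
import Mathlib.Algebra.MvPolynomial.Funext
import Mathlib.Analysis.Complex.Basic
import Mathlib.Analysis.Complex.Polynomial.Basic
import Mathlib.Topology.Algebra.MvPolynomial
import Mathlib.RingTheory.FiniteType
import Mathlib.RingTheory.Polynomial.RationalRoot

/-!
# Complex points of a finite type domain: a nonzero function is nonzero near every point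
-/

set_option autoImplicit false

open Filter Topology

namespace Groth.Agent.AnPts

theorem exists_point_lift {B A : Type*} [CommRing B] [Algebra ℂ B] [CommRing A] [Algebra ℂ A]
    (φ : B →ₐ[ℂ] A) (hint : φ.toRingHom.IsIntegral) (ψ : B →ₐ[ℂ] ℂ)
    (hker : ∀ b, φ b = 0 → ψ b = 0) : ∃ y : A →ₐ[ℂ] ℂ, y.comp φ = ψ := by
  letI : Algebra B A := φ.toRingHom.toAlgebra
  haveI : Algebra.IsIntegral B A := ⟨hint⟩
  haveI : (RingHom.ker ψ.toRingHom).IsPrime := RingHom.ker_isPrime _
  obtain ⟨Q, -, hQ, hQP⟩ := Ideal.exists_ideal_over_prime_of_isIntegral (S := A) (RingHom.ker ψ.toRingHom) ⊥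
    (fun b hb => hker b (show φ b = 0 from (Submodule.mem_bot A).1 hb))
  haveI := hQ
  have hmod : ∀ b, Ideal.Quotient.mk Q (φ b) = algebraMap ℂ (A ⧸ Q) (ψ b) := by
    intro b
    have h1 : b - algebraMap ℂ B (ψ b) ∈ RingHom.ker ψ.toRingHom := by simp
    rw [← hQP, Ideal.mem_comap] at h1
    have h2 : Ideal.Quotient.mk Q (φ (b - algebraMap ℂ B (ψ b))) = 0 := Ideal.Quotient.eq_zero_iff_mem.2 h1
    rw [map_sub, map_sub, AlgHom.commutes, sub_eq_zero] at h2
    exact h2
  haveI : Algebra.IsIntegral ℂ (A ⧸ Q) := ⟨fun a => by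
    obtain ⟨a, rfl⟩ := Ideal.Quotient.mk_surjective a
    obtain ⟨p, hp, hpa⟩ := hint a
    refine ⟨p.map ψ.toRingHom, hp.map _, ?_⟩
    have h2 := congrArg (Ideal.Quotient.mk Q) hpa
    rw [Polynomial.hom_eval₂, map_zero] at h2
    rw [Polynomial.eval₂_map, show (algebraMap ℂ (A ⧸ Q)).comp ψ.toRingHom =
      (Ideal.Quotient.mk Q).comp φ.toRingHom from RingHom.ext fun b => (hmod b).symm]
    exact h2⟩
  let e := AlgEquiv.ofBijective (Algebra.ofId ℂ (A ⧸ Q))
    (IsAlgClosed.algebraMap_bijective_of_isIntegral (k := ℂ) (K := A ⧸ Q))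
  refine ⟨e.symm.toAlgHom.comp (Ideal.Quotient.mkₐ ℂ Q), AlgHom.ext fun b => ?_⟩
  change e.symm (Ideal.Quotient.mk Q (φ b)) = ψ b
  rw [hmod]
  exact e.symm.commutes (ψ b)

theorem norm_root_le (p : Polynomial ℂ) (hp : p.Monic) {c : ℂ} (hc : p.eval c = 0) :
    ‖c‖ ≤ 1 + ∑ i ∈ Finset.range p.natDegree, ‖p.coeff i‖ := by
  have hS : 0 ≤ ∑ i ∈ Finset.range p.natDegree, ‖p.coeff i‖ := Finset.sum_nonneg fun i _ => norm_nonneg _
  by_contra hlt
  push Not at hlt
  have h1 : 1 < ‖c‖ := by linarith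
  rw [Polynomial.eval_eq_sum_range, Finset.sum_range_succ, hp.coeff_natDegree, one_mul] at hc
  obtain ⟨m, hm⟩ : ∃ m, p.natDegree = m + 1 := by
    refine Nat.exists_eq_succ_of_ne_zero fun h0 => ?_
    rw [h0] at hc
    simp at hc
  have h2 : ‖c‖ ^ (m + 1) ≤ (∑ i ∈ Finset.range p.natDegree, ‖p.coeff i‖) * ‖c‖ ^ m := by
    have h3 : ‖c ^ (m + 1)‖ = ‖∑ i ∈ Finset.range p.natDegree, p.coeff i * c ^ i‖ := by
      rw [← norm_neg (∑ i ∈ Finset.range p.natDegree, p.coeff i * c ^ i)]
      congr 1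
      rw [← hm]
      exact eq_neg_of_add_eq_zero_right hc
    rw [← norm_pow, h3, Finset.sum_mul]
    refine (norm_sum_le _ _).trans (Finset.sum_le_sum fun i hi => ?_)
    rw [norm_mul, norm_pow]
    refine mul_le_mul_of_nonneg_left (pow_le_pow_right₀ h1.le ?_) (norm_nonneg _)
    have := Finset.mem_range.1 hi
    omega
  rw [pow_succ'] at h2
  have h4 : ‖c‖ ≤ ∑ i ∈ Finset.range p.natDegree, ‖p.coeff i‖ :=
    le_of_mul_le_mul_right h2 (pow_pos (by linarith) m)
  linarith

theorem exists_root_norm_pow_le (p : Polynomial ℂ) (hp : p.Monic) (hd : 0 < p.natDegree) :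
    ∃ c : ℂ, p.eval c = 0 ∧ ‖c‖ ^ p.natDegree ≤ ‖p.eval 0‖ := by
  have hne : p.roots ≠ 0 := by
    intro h0
    have h2 := (IsAlgClosed.splits p).natDegree_eq_card_roots
    rw [h0, Multiset.card_zero] at h2
    omega
  obtain ⟨c, hc, hmin⟩ := p.roots.toFinset.exists_min_image (fun r => ‖r‖)
    (Multiset.toFinset_nonempty.2 hne)
  rw [Multiset.mem_toFinset] at hc
  refine ⟨c, (Polynomial.mem_roots hp.ne_zero).1 hc, ?_⟩
  rw [(IsAlgClosed.splits p).eval_eq_prod_roots_of_monic hp, (IsAlgClosed.splits p).natDegree_eq_card_roots]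
  have hmin' : ∀ r ∈ p.roots, ‖c‖ ≤ ‖r‖ := fun r hr => hmin r (Multiset.mem_toFinset.2 hr)
  clear hne hmin hc
  revert hmin'
  induction p.roots using Multiset.induction_on with
  | empty => simp
  | cons a t ih =>
    intro hmin' 
    rw [Multiset.card_cons, Multiset.map_cons, Multiset.prod_cons, norm_mul, zero_sub, norm_neg, pow_succ']
    exact mul_le_mul (hmin' a (Multiset.mem_cons_self a t))
      (ih fun r hr => hmin' r (Multiset.mem_cons_of_mem hr)) (pow_nonneg (norm_nonneg c) _) (norm_nonneg a)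

theorem exists_ne_zero_near {A : Type} [CommRing A] [IsDomain A] [Algebra ℂ A] [Algebra.FiniteType ℂ A]
    {f : A} (hf : f ≠ 0) (x : A →ₐ[ℂ] ℂ) (s : Finset A) {ε : ℝ} (hε : 0 < ε) :
    ∃ y : A →ₐ[ℂ] ℂ, y f ≠ 0 ∧ ∀ a ∈ s, ‖y a - x a‖ < ε := by
  classical
  obtain ⟨d, g, hginj, hgfin⟩ := exists_finite_inj_algHom_of_fg ℂ A
  let R := MvPolynomial (Fin d) ℂ
  letI : Algebra R A := g.toRingHom.toAlgebra
  haveI : IsScalarTower ℂ R A := IsScalarTower.of_algHom g
  haveI : Module.Finite R A := hgfin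
  haveI : FaithfulSMul R A := (faithfulSMul_iff_algebraMap_injective R A).2 hginj
  haveI : Module.IsTorsionFree R A := Module.isTorsionFree_iff_faithfulSMul.2 inferInstance
  haveI : IsIntegrallyClosed R := UniqueFactorizationMonoid.instIsIntegrallyClosed
  have hint : ∀ a : A, IsIntegral R a := fun a => IsIntegral.of_finite R a
  obtain ⟨m, π, hπ⟩ := Algebra.FiniteType.iff_quotient_mvPolynomial''.1 ‹Algebra.FiniteType ℂ A›
  let a : Fin m → A := fun i => π (MvPolynomial.X i)
  let z0 : Fin d → ℂ := fun i => x (g (MvPolynomial.X i))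
  have hev : ∀ (y : A →ₐ[ℂ] ℂ) (z : Fin d → ℂ), (∀ i, y (g (MvPolynomial.X i)) = z i) →
      ∀ r : R, y (algebraMap R A r) = MvPolynomial.eval z r := by
    intro y z hz r
    have h : y.comp g = MvPolynomial.aeval z := MvPolynomial.algHom_ext fun i => by simp [hz i]
    rw [← MvPolynomial.aeval_eq_eval]
    exact DFunLike.congr_fun h r
  have hext : ∀ y y' : A →ₐ[ℂ] ℂ, (∀ i, y (a i) = y' (a i)) → y = y' := by
    intro y y' h
    have h' : y.comp π = y'.comp π := MvPolynomial.algHom_ext h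
    refine AlgHom.ext fun b => ?_
    obtain ⟨q, rfl⟩ := hπ b
    exact DFunLike.congr_fun h' q
  have hroot : ∀ (y : A →ₐ[ℂ] ℂ) (z : Fin d → ℂ), (∀ i, y (g (MvPolynomial.X i)) = z i) →
      ∀ b : A, ((minpoly R b).map (MvPolynomial.eval z)).eval (y b) = 0 := by
    intro y z hz b
    have h := congrArg y (minpoly.aeval R b)
    rw [map_zero, Polynomial.aeval_def] at h
    rw [show y (Polynomial.eval₂ (algebraMap R A) b (minpoly R b)) =
      Polynomial.eval₂ (y.toRingHom.comp (algebraMap R A)) (y b) (minpoly R b) from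
        Polynomial.hom_eval₂ _ _ y.toRingHom b] at h
    rw [Polynomial.eval_map, show MvPolynomial.eval z = y.toRingHom.comp (algebraMap R A) from
      RingHom.ext fun r => (hev y z hz r).symm]
    exact h
  -- the fibre through `x` is finite
  have hF : {y : A →ₐ[ℂ] ℂ | ∀ i, y (g (MvPolynomial.X i)) = z0 i}.Finite := by
    refine Set.Finite.of_finite_image (f := fun (y : A →ₐ[ℂ] ℂ) (i : Fin m) => y (a i)) ?_
      (fun y _ y' _ h => hext y y' (congrFun h))
    refine (Set.Finite.pi fun i : Fin m =>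
      Polynomial.finite_setOf_isRoot (((minpoly.monic (hint (a i))).map (MvPolynomial.eval z0)).ne_zero)).subset ?_
    rintro _ ⟨y, hy, rfl⟩ i -
    exact hroot y z0 hy (a i)
  obtain ⟨θ, hθx, hθF⟩ : ∃ θ : A, x θ = 0 ∧
      ∀ y : A →ₐ[ℂ] ℂ, (∀ i, y (g (MvPolynomial.X i)) = z0 i) → y θ = 0 → y = x := by
    by_contra hcon
    push Not at hcon
    have hsub : (RingHom.ker x.toRingHom : Set A) ⊆
        ⋃ y ∈ ({y : A →ₐ[ℂ] ℂ | ∀ i, y (g (MvPolynomial.X i)) = z0 i} \ {x}), (RingHom.ker y.toRingHom : Set A) := by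
      intro θ hθ
      obtain ⟨y, hy, hy0, hyx⟩ := hcon θ hθ
      exact Set.mem_biUnion ⟨hy, hyx⟩ hy0
    obtain ⟨y, ⟨-, hyx⟩, hle⟩ := (Ideal.subset_union_prime_finite (hF.sdiff) (f := fun y : A →ₐ[ℂ] ℂ => RingHom.ker y.toRingHom)
      x x (fun y _ _ _ => RingHom.ker_isPrime _)).1 hsub
    refine hyx (AlgHom.ext fun b => ?_)
    have h1 : b - algebraMap ℂ A (x b) ∈ RingHom.ker x.toRingHom := by simp
    have h2 := hle h1
    simpa [sub_eq_zero] using h2
  let P := minpoly R θ
  have hPm : P.Monic := minpoly.monic (hint θ)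
  have hPd : 0 < P.natDegree := minpoly.natDegree_pos (hint θ)
  have hg0 : (minpoly R f).coeff 0 ≠ 0 := by
    intro h0
    obtain ⟨q, hq⟩ := Polynomial.X_dvd_iff.2 h0
    have hqm : q.Monic := Polynomial.Monic.of_mul_monic_left Polynomial.monic_X (hq ▸ minpoly.monic (hint f))
    have h2 := minpoly.aeval R f
    rw [hq, map_mul, Polynomial.aeval_X, mul_eq_zero] at h2
    have h3 := minpoly.min R f hqm (h2.resolve_left hf)
    have h4 := Polynomial.natDegree_le_natDegree h3
    rw [hq, Polynomial.natDegree_X_mul hqm.ne_zero] at h4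
    omega
  -- base points avoiding the bad locus
  have hz : ∀ k : ℕ, ∃ z : Fin d → ℂ, (∀ i, ‖z i - z0 i‖ ≤ 1 / ((k : ℝ) + 1)) ∧
      MvPolynomial.eval z ((minpoly R f).coeff 0) ≠ 0 := by
    intro k
    by_contra hcon
    push Not at hcon
    refine hg0 (MvPolynomial.funext_set (fun i => Metric.closedBall (z0 i) (1 / ((k : ℝ) + 1))) (fun i => ?_) fun z hz => ?_)
    · exact infinite_of_mem_nhds (z0 i) (Metric.closedBall_mem_nhds _ (by positivity))
    · rw [hcon z (fun i => by simpa [dist_eq_norm] using Metric.mem_closedBall.1 (hz i trivial)), map_zero]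
  choose z hz hzg using hz
  have hzlim : Tendsto z atTop (𝓝 z0) := by
    rw [tendsto_pi_nhds]
    intro i
    rw [tendsto_iff_norm_sub_tendsto_zero]
    exact squeeze_zero (fun k => norm_nonneg _) (fun k => hz k i) tendsto_one_div_add_atTop_nhds_zero_nat
  have hy : ∀ k, ∃ y : A →ₐ[ℂ] ℂ, (∀ i, y (g (MvPolynomial.X i)) = z k i) ∧
      ‖y θ‖ ^ P.natDegree ≤ ‖MvPolynomial.eval (z k) (P.coeff 0)‖ := by
    intro k
    obtain ⟨c, hc, hcle⟩ := exists_root_norm_pow_le (P.map (MvPolynomial.eval (z k))) (hPm.map _)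
      (by rwa [hPm.natDegree_map])
    rw [hPm.natDegree_map, ← Polynomial.coeff_zero_eq_eval_zero, Polynomial.coeff_map] at hcle
    let φ : Polynomial R →ₐ[ℂ] A := (Polynomial.aeval θ : Polynomial R →ₐ[R] A).restrictScalars ℂ
    let ψ : Polynomial R →ₐ[ℂ] ℂ :=
      { toRingHom := (Polynomial.evalRingHom c).comp (Polynomial.mapRingHom (MvPolynomial.eval (z k)))
        commutes' := fun r => by
          simp [IsScalarTower.algebraMap_apply ℂ R (Polynomial R), Polynomial.algebraMap_apply, R] }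
    obtain ⟨y, hy⟩ := exists_point_lift φ
      (RingHom.IsIntegral.tower_top (Polynomial.C : R →+* Polynomial R) φ.toRingHom (by
        intro b
        rw [show φ.toRingHom.comp Polynomial.C = algebraMap R A from RingHom.ext fun r => by simp [φ]]
        exact hint b)) ψ (fun h hh => by
        obtain ⟨q, rfl⟩ := minpoly.isIntegrallyClosed_dvd (hint θ) (show Polynomial.aeval θ h = 0 from hh)
        change Polynomial.eval c ((P * q).map (MvPolynomial.eval (z k))) = 0
        rw [Polynomial.map_mul, Polynomial.eval_mul, hc, zero_mul])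
    refine ⟨y, fun i => ?_, ?_⟩
    · have := DFunLike.congr_fun hy (Polynomial.C (MvPolynomial.X i))
      simpa [φ, ψ, RingHom.algebraMap_toAlgebra, MvPolynomial.eval_X, R] using this
    · have := DFunLike.congr_fun hy Polynomial.X
      rw [show y θ = c by simpa [φ, ψ] using this]
      exact hcle
  choose y hyz hyθ using hy
  have hyf : ∀ k, y k f ≠ 0 := by
    intro k h0
    have h1 := hroot (y k) (z k) (hyz k) f
    rw [h0, ← Polynomial.coeff_zero_eq_eval_zero, Polynomial.coeff_map] at h1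
    exact hzg k h1
  -- boundedness and a limit point
  let v : ℕ → Fin m → ℂ := fun k i => y k (a i)
  have hbdd : ∀ i, ∃ M, ∀ k, ‖v k i‖ ≤ M := by
    intro i
    let q := minpoly R (a i)
    have hq : q.Monic := minpoly.monic (hint (a i))
    have hcont : Continuous fun w : Fin d → ℂ =>
        1 + ∑ j ∈ Finset.range q.natDegree, ‖MvPolynomial.eval w (q.coeff j)‖ :=
      continuous_const.add (continuous_finsetSum _ fun j _ => (MvPolynomial.continuous_eval _).norm)
    obtain ⟨M, hM⟩ := ((hcont.tendsto z0).comp hzlim).bddAbove_range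
    refine ⟨M, fun k => le_trans ?_ (hM ⟨k, rfl⟩)⟩
    have h1 := norm_root_le (q.map (MvPolynomial.eval (z k))) (hq.map _) (hroot (y k) (z k) (hyz k) (a i))
    simpa [hq.natDegree_map, Polynomial.coeff_map] using h1
  choose M hM using hbdd
  obtain ⟨w, -, φn, hφn, hlim⟩ := (isCompact_univ_pi fun i => isCompact_closedBall (0 : ℂ) (M i)).tendsto_subseq
    (x := v) (fun k i _ => by simpa using hM i k)
  have hconv : ∀ q : MvPolynomial (Fin m) ℂ,
      Tendsto (fun k => y (φn k) (π q)) atTop (𝓝 (MvPolynomial.eval w q)) := by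
    intro q
    have h1 := ((MvPolynomial.continuous_eval q).tendsto w).comp hlim
    refine h1.congr fun k => ?_
    have h2 : (y (φn k)).comp π = MvPolynomial.aeval (v (φn k)) := MvPolynomial.algHom_ext fun i => by simp [v, a]
    simp only [Function.comp_apply]
    rw [← MvPolynomial.aeval_eq_eval]
    exact (DFunLike.congr_fun h2 q).symm
  have hwker : RingHom.ker π.toRingHom ≤ RingHom.ker (MvPolynomial.aeval w : MvPolynomial (Fin m) ℂ →ₐ[ℂ] ℂ).toRingHom := by
    intro q hq
    have h1 := hconv q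
    rw [show π q = 0 from hq] at h1
    simp only [map_zero] at h1
    rw [RingHom.mem_ker]
    change MvPolynomial.aeval w q = 0
    rw [MvPolynomial.aeval_eq_eval]
    exact tendsto_nhds_unique h1 tendsto_const_nhds
  let yinf : A →ₐ[ℂ] ℂ := AlgHom.liftOfSurjective π hπ (MvPolynomial.aeval w) hwker
  have hyinf : ∀ b : A, Tendsto (fun k => y (φn k) b) atTop (𝓝 (yinf b)) := by
    intro b
    obtain ⟨q, rfl⟩ := hπ b
    rw [AlgHom.liftOfSurjective_apply, MvPolynomial.aeval_eq_eval]
    exact hconv q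
  have hyx : yinf = x := by
    refine hθF yinf (fun i => ?_) ?_
    · refine tendsto_nhds_unique (hyinf _) ?_
      simp_rw [hyz]
      exact ((tendsto_pi_nhds.1 hzlim) i).comp hφn.tendsto_atTop
    · refine tendsto_nhds_unique (hyinf θ) ?_
      rw [tendsto_zero_iff_norm_tendsto_zero]
      have hc0 : MvPolynomial.eval z0 (P.coeff 0) = 0 := by
        have h1 := hroot x z0 (fun i => rfl) θ
        rwa [hθx, ← Polynomial.coeff_zero_eq_eval_zero, Polynomial.coeff_map] at h1
      have h2 : Tendsto (fun k => ‖MvPolynomial.eval (z (φn k)) (P.coeff 0)‖) atTop (𝓝 0) := by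
        have h3 := (((MvPolynomial.continuous_eval (P.coeff 0)).norm).tendsto z0).comp (hzlim.comp hφn.tendsto_atTop)
        simp only [hc0, norm_zero] at h3
        exact h3
      rw [Metric.tendsto_atTop]
      intro δ hδ
      obtain ⟨N, hN⟩ := Metric.tendsto_atTop.1 h2 (δ ^ P.natDegree) (pow_pos hδ _)
      refine ⟨N, fun k hk => ?_⟩
      have h4 := hN k hk
      simp only [dist_zero_right, norm_norm] at h4 ⊢
      exact lt_of_pow_lt_pow_left₀ _ hδ.le (lt_of_le_of_lt (hyθ (φn k)) h4)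
  have hev' : ∀ᶠ k in atTop, ∀ b ∈ s, ‖y (φn k) b - x b‖ < ε := by
    refine (s.eventually_all).2 fun b _ => ?_
    have h1 := hyinf b
    rw [hyx, tendsto_iff_norm_sub_tendsto_zero] at h1
    exact h1.eventually (gt_mem_nhds hε)
  obtain ⟨k, hk⟩ := hev'.exists
  exact ⟨y (φn k), hyf _, hk⟩

end Groth.Agent.AnPts
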