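import Groth.Agent.AnPts.Basic
import Groth.Agent.AnPts.Algebra
import Mathlib.RingTheory.Spectrum.Prime.ConstructibleSet
import Mathlib.Analysis.Complex.Polynomial.Basic
import Mathlib.AlgebraicGeometry.Morphisms.FinitePresentation
import Mathlib.AlgebraicGeometry.Noetherian

/-!
# Constructible sets and the complex topology
-/

set_option autoImplicit false

open AlgebraicGeometry CategoryTheory TopologicalSpace Topology
open An

namespace Groth.Agent.AnPts

theorem exists_prime_of_mem_closure {R : Type} [CommRing R] {T : Set (PrimeSpectrum R)}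
    (hT : IsConstructible T) {m : PrimeSpectrum R} (hm : m ∈ closure T) :
    ∃ (p : Ideal R) (f : R), p.IsPrime ∧ p ≤ m.asIdeal ∧ f ∉ p ∧
      ∀ q : PrimeSpectrum R, p ≤ q.asIdeal → f ∉ q.asIdeal → q ∈ T := by
  obtain ⟨S, rfl⟩ := PrimeSpectrum.exists_constructibleSetData_iff.2 hT
  rw [PrimeSpectrum.ConstructibleSetData.toSet, ← Finset.set_biUnion_coe, S.finite_toSet.closure_biUnion] at hm
  simp only [Set.mem_iUnion] at hm
  obtain ⟨C, hC, hm⟩ := hm
  have hdisj : Disjoint (Ideal.span (Set.range C.g) : Set R)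
      (Submonoid.powers C.f ⊔ m.asIdeal.primeCompl : Submonoid R) := by
    refine Set.disjoint_left.2 fun z hzJ hzM => ?_
    obtain ⟨_, ⟨k, rfl⟩, b, hb, rfl⟩ := Submonoid.mem_sup.1 hzM
    obtain ⟨q, hqb, hqg, hqf⟩ := mem_closure_iff.1 hm _ (PrimeSpectrum.basicOpen b).isOpen hb
    have hJq : Ideal.span (Set.range C.g) ≤ q.asIdeal := Ideal.span_le.2 hqg
    rcases q.isPrime.mem_or_mem (hJq hzJ) with h | h
    · exact hqf fun _ hx => (Set.mem_singleton_iff.1 hx) ▸ q.isPrime.mem_of_pow_mem k h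
    · exact hqb h
  obtain ⟨p, hp, hJp, hpM⟩ := Ideal.exists_le_prime_disjoint _ _ hdisj
  have hfp : C.f ∉ p := fun h =>
    Set.disjoint_left.1 hpM h (Submonoid.mem_sup_left (Submonoid.mem_powers C.f))
  refine ⟨p, C.f, hp, fun z hz => ?_, hfp, fun q hpq hfq => ?_⟩
  · by_contra hzm
    exact Set.disjoint_left.1 hpM hz (Submonoid.mem_sup_right hzm)
  · exact Set.mem_biUnion hC ⟨Set.Subset.trans Ideal.subset_span (hJp.trans hpq), fun h => hfq (h rfl)⟩

variable {X : Scheme.{0}} [X.Over SC]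

theorem mem_toSpecΓ_pt (y : Pts X) (f : Γ(X, ⊤)) :
    f ∈ (X.toSpecΓ y.pt).asIdeal ↔ y.evTop f = 0 := by
  rw [← not_iff_not]
  refine Iff.trans ?_ (ev_ne_zero_iff y (Opens.mem_top _) f).symm
  rw [← Scheme.toSpecΓ_preimage_basicOpen]
  exact Iff.rfl

theorem coe_pointEquivClosedPoint [LocallyOfFiniteType (X ↘ SC)] (x : Pts X) :
    ((pointEquivClosedPoint (X ↘ SC)) x : X) = x.pt :=
  congrArg x.1 (eq_cpt _)

theorem pt_injective [LocallyOfFiniteType (X ↘ SC)] : Function.Injective (Pts.pt : Pts X → X) :=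
  fun _ _ h => (pointEquivClosedPoint (X ↘ SC)).injective
    (Subtype.ext ((coe_pointEquivClosedPoint _).trans (h.trans (coe_pointEquivClosedPoint _).symm)))

theorem isClosed_pt [LocallyOfFiniteType (X ↘ SC)] (x : Pts X) : IsClosed ({x.pt} : Set X) :=
  coe_pointEquivClosedPoint x ▸ ((pointEquivClosedPoint (X ↘ SC)) x).2

theorem exists_pts_of_isClosed [LocallyOfFiniteType (X ↘ SC)] {p : X} (hp : IsClosed ({p} : Set X)) :
    ∃ x : Pts X, x.pt = p :=
  ⟨(pointEquivClosedPoint (X ↘ SC)).symm ⟨p, hp⟩,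
    (coe_pointEquivClosedPoint _).symm.trans
      (congrArg Subtype.val ((pointEquivClosedPoint (X ↘ SC)).apply_symm_apply ⟨p, hp⟩))⟩

theorem exists_pts_of_isLocallyClosed [LocallyOfFiniteType (X ↘ SC)] {Z : Set X}
    (hne : Z.Nonempty) (hZ : IsLocallyClosed Z) : ∃ x : Pts X, x.pt ∈ Z := by
  haveI : JacobsonSpace X := LocallyOfFiniteType.jacobsonSpace (X ↘ SC)
  obtain ⟨p, hpZ, hp⟩ := nonempty_inter_closedPoints hne hZ
  obtain ⟨x, rfl⟩ := exists_pts_of_isClosed hp
  exact ⟨x, hpZ⟩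

theorem mem_closure_pts [IsAffine X] [LocallyOfFiniteType (X ↘ SC)] {T : Set X}
    (hT : IsConstructible T) {x : Pts X} (hx : x.pt ∈ closure T) : x ∈ closure (Pts.pt ⁻¹' T) := by
  let e := X.toSpecΓ.homeomorph
  have hT' : IsConstructible (e.symm ⁻¹' T) := hT.preimage_of_isOpenEmbedding e.symm.isOpenEmbedding
  have hx' : e x.pt ∈ closure (e.symm ⁻¹' T) := by
    rw [← e.symm.preimage_closure]
    simpa using hx
  obtain ⟨p, f, hp, hpm, hfp, hT⟩ := exists_prime_of_mem_closure hT' hx'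
  haveI := hp
  obtain ⟨n, s, hs⟩ := exists_generators X
  letI : Algebra ℂ Γ(X, ⊤) := (strHom X).toAlgebra
  haveI : Algebra.FiniteType ℂ Γ(X, ⊤) :=
    Algebra.FiniteType.of_surjective (MvPolynomial.aeval s : MvPolynomial (Fin n) ℂ →ₐ[ℂ] Γ(X, ⊤)) hs
  let xh : Γ(X, ⊤) →ₐ[ℂ] ℂ := ⟨evHom x ⊤ (Opens.mem_top _), fun c => ev_strHom x c⟩
  have hpx : ∀ a ∈ p, xh a = 0 := fun a ha => (mem_toSpecΓ_pt x a).1 (hpm ha)
  let π := Ideal.Quotient.mkₐ ℂ p
  haveI : Algebra.FiniteType ℂ (Γ(X, ⊤) ⧸ p) :=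
    Algebra.FiniteType.of_surjective π (Ideal.Quotient.mkₐ_surjective ℂ p)
  rw [(isEmbedding_of_generators s hs).1.isInducing.closure_eq_preimage_closure_image, Set.mem_preimage,
    Metric.mem_closure_iff]
  intro ε hε
  classical
  obtain ⟨y, hyf, hy⟩ := exists_ne_zero_near (f := π f) (fun h => hfp (Ideal.Quotient.eq_zero_iff_mem.1 h))
    (Ideal.Quotient.liftₐ p xh hpx) (Finset.univ.image fun i => π (s i)) hε
  obtain ⟨z, hz⟩ := exists_of_hom (X := X) (y.comp π).toRingHom (y.comp π).commutes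
  refine ⟨_, ⟨z, ?_, rfl⟩, ?_⟩
  · have h := hT (e z.pt) (fun a ha => (mem_toSpecΓ_pt z a).2 ?_) (fun h => hyf ?_)
    · exact (congrArg (· ∈ T) (e.symm_apply_apply z.pt)).mp h
    · rw [hz]
      change y (π a) = 0
      rw [show π a = 0 from Ideal.Quotient.eq_zero_iff_mem.2 ha, map_zero]
    · exact (hz f).symm.trans ((mem_toSpecΓ_pt z f).1 h)
  · refine (dist_pi_lt_iff hε).2 fun i => ?_
    rw [dist_comm, dist_eq_norm]
    change ‖z.evTop (s i) - x.evTop (s i)‖ < ε
    rw [hz]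
    exact hy _ (Finset.mem_image_of_mem _ (Finset.mem_univ i))

/-- The closure of a locally constructible set, on complex points. -/
theorem preimage_closure [LocallyOfFiniteType (X ↘ SC)] {T : Set X} (hT : IsLocallyConstructible T) :
    (Pts.pt ⁻¹' closure T : Set (Pts X)) = closure (Pts.pt ⁻¹' T) := by
  refine Set.Subset.antisymm (fun x hx => ?_) (Pts.continuous_pt.closure_preimage_subset T)
  obtain ⟨_, ⟨(U : X.Opens), hU, rfl⟩, hxU, -⟩ :=
    X.isBasis_affineOpens.exists_subset_of_mem_open (Set.mem_univ x.pt) isOpen_univ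
  letI : (U : Scheme).Over SC := opensOver U
  haveI : U.ι.IsOver SC := ⟨rfl⟩
  haveI : IsAffine U := hU
  haveI : LocallyOfFiniteType ((U : Scheme) ↘ SC) := inferInstanceAs (LocallyOfFiniteType (U.ι ≫ X ↘ SC))
  obtain ⟨z, rfl⟩ : x ∈ Set.range (Pts.map U.ι) := by
    rw [range_map_of_isOpenImmersion]
    exact ⟨⟨x.pt, hxU⟩, rfl⟩
  have hT' : IsConstructible (U.ι ⁻¹' T) :=
    (hT.preimage_of_isOpenEmbedding U.ι.isOpenEmbedding).isConstructible
  have hz : z.pt ∈ closure (U.ι ⁻¹' T) := by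
    rw [← U.ι.isOpenEmbedding.isOpenMap.preimage_closure_eq_closure_preimage U.ι.continuous]
    change U.ι z.pt ∈ closure T
    rw [← Pts.pt_map]
    exact hx
  refine map_mem_closure (Pts.continuous_map U.ι) (mem_closure_pts hT' hz) fun w hw => ?_
  change (Pts.map U.ι w).pt ∈ T
  rw [Pts.pt_map]
  exact hw

theorem exists_pts_of_isLocallyConstructible [LocallyOfFiniteType (X ↘ SC)] {T : Set X}
    (hT : IsLocallyConstructible T) (hne : T.Nonempty) : ∃ x : Pts X, x.pt ∈ T := by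
  obtain ⟨x, hx⟩ := exists_pts_of_isLocallyClosed hne.closure isClosed_closure.isLocallyClosed
  have h : x ∈ closure (Pts.pt ⁻¹' T : Set (Pts X)) := preimage_closure hT ▸ hx
  exact (closure_nonempty_iff.1 ⟨x, h⟩)

theorem isLocallyConstructible_of_isClosed [LocallyOfFiniteType (X ↘ SC)] {Z : Set X}
    (hZ : IsClosed Z) : IsLocallyConstructible Z := by
  haveI : IsLocallyNoetherian X := LocallyOfFiniteType.isLocallyNoetherian (X ↘ SC)
  intro x
  obtain ⟨_, ⟨(U : X.Opens), hU, rfl⟩, hxU, -⟩ :=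
    X.isBasis_affineOpens.exists_subset_of_mem_open (Set.mem_univ x) isOpen_univ
  refine ⟨U, U.isOpen.mem_nhds hxU, U.isOpen, ?_⟩
  haveI : IsAffine U := hU
  haveI : IsNoetherian (U : Scheme) := {}
  have h : IsConstructible (U.ι ⁻¹' Z)ᶜ :=
    (NoetherianSpace.isCompact _).isConstructible (hZ.preimage U.ι.continuous).isOpen_compl
  exact isConstructible_compl.1 h

theorem isLocallyConstructible_compl {T : Set X} (hT : IsLocallyConstructible T) :
    IsLocallyConstructible Tᶜ := fun x =>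
  let ⟨U, h1, h2, h3⟩ := hT x
  ⟨U, h1, h2, h3.compl⟩

theorem isClosed_iff [LocallyOfFiniteType (X ↘ SC)] {T : Set X} (hT : IsLocallyConstructible T) :
    IsClosed T ↔ IsClosed (Pts.pt ⁻¹' T : Set (Pts X)) := by
  refine ⟨fun h => h.preimage Pts.continuous_pt, fun h => ?_⟩
  refine closure_subset_iff_isClosed.1 fun p hp => ?_
  by_contra hpT
  obtain ⟨x, hx⟩ := exists_pts_of_isLocallyConstructible
    ((isLocallyConstructible_of_isClosed isClosed_closure).inter (isLocallyConstructible_compl hT)) ⟨p, hp, hpT⟩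
  exact hx.2 ((preimage_closure hT ▸ h.closure_eq).le hx.1)

variable {Y : Scheme.{0}} [Y.Over SC]

theorem range_map [LocallyOfFiniteType (X ↘ SC)] [LocallyOfFiniteType (Y ↘ SC)] (g : X ⟶ Y) [g.IsOver SC]
    {S : Set X} (hS : IsLocallyClosed S) :
    Pts.map g '' (Pts.pt ⁻¹' S) = Pts.pt ⁻¹' (g '' S) := by
  refine Set.Subset.antisymm ?_ fun y hy => ?_
  · rintro _ ⟨x, hx, rfl⟩
    exact ⟨x.pt, hx, (Pts.pt_map g x).symm⟩
  · obtain ⟨p, hp, hpy⟩ := hy
    obtain ⟨x, hxS, hxy⟩ := exists_pts_of_isLocallyClosed (Z := S ∩ g ⁻¹' {y.pt}) ⟨p, hp, hpy⟩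
      (hS.inter ((isClosed_pt y).preimage g.continuous).isLocallyClosed)
    exact ⟨x, hxS, pt_injective ((Pts.pt_map g x).trans hxy)⟩

theorem range_map_eq [LocallyOfFiniteType (X ↘ SC)] [LocallyOfFiniteType (Y ↘ SC)] (g : X ⟶ Y) [g.IsOver SC] :
    Set.range (Pts.map g) = Pts.pt ⁻¹' Set.range g := by
  simpa using range_map g isOpen_univ.isLocallyClosed

theorem isLocallyConstructible_image [LocallyOfFiniteType (X ↘ SC)] [LocallyOfFiniteType (Y ↘ SC)]
    (g : X ⟶ Y) [g.IsOver SC] [QuasiCompact g] {S : Set X} (hS : IsLocallyConstructible S) :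
    IsLocallyConstructible (g '' S) := by
  haveI : IsLocallyNoetherian Y := LocallyOfFiniteType.isLocallyNoetherian (Y ↘ SC)
  haveI : LocallyOfFiniteType (g ≫ Y ↘ SC) := by rw [comp_over g]; infer_instance
  haveI : LocallyOfFiniteType g := locallyOfFiniteType_of_comp g (Y ↘ SC)
  exact g.isLocallyConstructible_image hS

theorem isLocallyConstructible_range [LocallyOfFiniteType (X ↘ SC)] [LocallyOfFiniteType (Y ↘ SC)]
    (g : X ⟶ Y) [g.IsOver SC] [QuasiCompact g] : IsLocallyConstructible (Set.range g) := by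
  simpa using isLocallyConstructible_image g IsLocallyConstructible.univ

end Groth.Agent.AnPts
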