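import Groth.Agent.AnPts.Basic
import Mathlib.AlgebraicGeometry.Morphisms.Affine
import Mathlib.AlgebraicGeometry.PullbackCarrier

/-!
# The complex topology on fibre products
-/

set_option autoImplicit false

open AlgebraicGeometry CategoryTheory Limits TopologicalSpace Topology
open An

namespace Groth.Agent.AnPts

variable {X Y S : Scheme.{0}} [X.Over SC] [Y.Over SC] [S.Over SC]
  (f : X ⟶ S) (g : Y ⟶ S) [f.IsOver SC] [g.IsOver SC]

/-- The map to the product of the spaces of points. -/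
noncomputable def pairMap (z : Pts (pullback f g)) : Pts X × Pts Y :=
  (Pts.map (pullback.fst f g) z, Pts.map (pullback.snd f g) z)

theorem continuous_pairMap : Continuous (pairMap f g) :=
  (Pts.continuous_map _).prodMk (Pts.continuous_map _)

theorem pairMap_injective : Function.Injective (pairMap f g) := fun _ _ h =>
  Subtype.ext (pullback.hom_ext (congrArg Subtype.val (congrArg Prod.fst h))
    (congrArg Subtype.val (congrArg Prod.snd h)))

theorem exists_pairMap (x : Pts X) (y : Pts Y) (h : Pts.map f x = Pts.map g y) :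
    ∃ z, pairMap f g z = (x, y) := by
  have h' : x.1 ≫ f = y.1 ≫ g := congrArg Subtype.val h
  refine ⟨⟨pullback.lift x.1 y.1 h', ?_⟩, Prod.ext (Subtype.ext (pullback.lift_fst _ _ _))
    (Subtype.ext (pullback.lift_snd _ _ _))⟩
  change pullback.lift x.1 y.1 h' ≫ pullback.fst f g ≫ (X ↘ SC) = 𝟙 SC
  rw [pullback.lift_fst_assoc]
  exact x.2

theorem strHom_app (h : X ⟶ Y) [h.IsOver SC] (c : ℂ) : h.appTop (strHom Y c) = strHom X c := by
  change ((Scheme.ΓSpecIso (CommRingCat.of ℂ)).inv ≫ (Y ↘ SC).appTop ≫ h.appTop) c = _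
  rw [← Scheme.Hom.comp_appTop, comp_over h]
  rfl

theorem evTop_map (h : X ⟶ Y) [h.IsOver SC] (x : Pts X) (a : Γ(Y, ⊤)) :
    (Pts.map h x).evTop a = x.evTop (h.appTop a) :=
  Pts.ev_map h x ⊤ _ a

theorem isInducing_pairMap_affine [IsAffine X] [IsAffine Y] [IsAffine S]
    [LocallyOfFiniteType (X ↘ SC)] [LocallyOfFiniteType (Y ↘ SC)] :
    IsInducing (pairMap f g) := by
  haveI : IsAffine (pullback f g) := .of_isPullback (IsPullback.of_hasPullback f g)
  obtain ⟨n, s, hs⟩ := exists_generators X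
  obtain ⟨m, t, ht⟩ := exists_generators Y
  let u : Fin (n + m) → Γ(pullback f g, ⊤) :=
    Fin.append (fun i => (pullback.fst f g).appTop (s i)) (fun i => (pullback.snd f g).appTop (t i))
  let ev := MvPolynomial.eval₂Hom (strHom (pullback f g)) u
  have hX : ∀ a, (pullback.fst f g).appTop a ∈ ev.range := by
    intro a
    obtain ⟨q, rfl⟩ := hs a
    refine ⟨MvPolynomial.rename (Fin.castAdd m) q, ?_⟩
    refine RingHom.congr_fun (MvPolynomial.ringHom_ext (f := ev.comp (MvPolynomial.rename (Fin.castAdd m)).toRingHom)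
      (g := (pullback.fst f g).appTop.hom.comp (MvPolynomial.eval₂Hom (strHom X) s)) ?_ ?_) q
    · intro c; simp [ev, strHom_app]
    · intro i; simp [ev, u]
  have hY : ∀ a, (pullback.snd f g).appTop a ∈ ev.range := by
    intro a
    obtain ⟨q, rfl⟩ := ht a
    refine ⟨MvPolynomial.rename (Fin.natAdd n) q, ?_⟩
    refine RingHom.congr_fun (MvPolynomial.ringHom_ext (f := ev.comp (MvPolynomial.rename (Fin.natAdd n)).toRingHom)
      (g := (pullback.snd f g).appTop.hom.comp (MvPolynomial.eval₂Hom (strHom Y) t)) ?_ ?_) q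
    · intro c; simp [ev, strHom_app]
    · intro i; simp [ev, u]
  have hpo := isPushout_appTop_of_isPullback (IsPullback.of_hasPullback f g)
  let iX : Γ(X, ⊤) ⟶ CommRingCat.of ev.range :=
    CommRingCat.ofHom ((pullback.fst f g).appTop.hom.codRestrict ev.range hX)
  let iY : Γ(Y, ⊤) ⟶ CommRingCat.of ev.range :=
    CommRingCat.ofHom ((pullback.snd f g).appTop.hom.codRestrict ev.range hY)
  have hw : f.appTop ≫ iX = g.appTop ≫ iY := by
    ext a
    exact congr($(hpo.w) a)
  have hid : hpo.desc iX iY hw ≫ CommRingCat.ofHom ev.range.subtype = 𝟙 _ := by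
    apply hpo.hom_ext
    · rw [hpo.inl_desc_assoc, Category.comp_id]
      rfl
    · rw [hpo.inr_desc_assoc, Category.comp_id]
      rfl
  have hu : Function.Surjective ev := fun a => by
    have h : (hpo.desc iX iY hw a : Γ(pullback f g, ⊤)) = a := congr($hid a)
    exact h ▸ (hpo.desc iX iY hw a).2
  let h : Pts X × Pts Y → (Fin (n + m) → ℂ) := fun p =>
    Fin.append (fun i => p.1.evTop (s i)) (fun i => p.2.evTop (t i))
  have hc : Continuous h := continuous_pi fun i => by
    refine Fin.addCases (fun i => ?_) (fun i => ?_) i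
    · simp only [h, Fin.append_left]
      exact (continuous_evTop (s i)).comp continuous_fst
    · simp only [h, Fin.append_right]
      exact (continuous_evTop (t i)).comp continuous_snd
  refine IsInducing.of_comp (continuous_pairMap f g) hc ?_
  convert! (isEmbedding_of_generators u hu).1.isInducing using 1
  funext z i
  refine Fin.addCases (fun i => ?_) (fun i => ?_) i
  · simp [h, u, pairMap, evTop_map]
  · simp [h, u, pairMap, evTop_map]

theorem isEmbedding_pairMap [LocallyOfFiniteType (X ↘ SC)] [LocallyOfFiniteType (Y ↘ SC)] :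
    IsEmbedding (pairMap f g) := by
  refine ⟨isInducing_iff_nhds.2 fun z => le_antisymm
    ((continuous_pairMap f g).tendsto z).le_comap fun N hN => ?_, pairMap_injective f g⟩
  obtain ⟨_, ⟨(W : S.Opens), hW, rfl⟩, hzW, -⟩ := S.isBasis_affineOpens.exists_subset_of_mem_open
    (Set.mem_univ (f (pullback.fst f g z.pt))) isOpen_univ
  have hzW' : g (pullback.snd f g z.pt) ∈ W := by
    rw [← Scheme.Hom.comp_apply, ← pullback.condition, Scheme.Hom.comp_apply]
    exact hzW
  obtain ⟨_, ⟨(U : X.Opens), hU, rfl⟩, hzU, hUW⟩ := X.isBasis_affineOpens.exists_subset_of_mem_open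
    (show pullback.fst f g z.pt ∈ f ⁻¹ᵁ W from hzW) (f ⁻¹ᵁ W).isOpen
  obtain ⟨_, ⟨(V : Y.Opens), hV, rfl⟩, hzV, hVW⟩ := Y.isBasis_affineOpens.exists_subset_of_mem_open
    (show pullback.snd f g z.pt ∈ g ⁻¹ᵁ W from hzW') (g ⁻¹ᵁ W).isOpen
  letI : (U : Scheme).Over SC := opensOver U
  letI : (V : Scheme).Over SC := opensOver V
  letI : (W : Scheme).Over SC := opensOver W
  haveI : IsAffine (U : Scheme) := hU
  haveI : IsAffine (V : Scheme) := hV
  haveI : IsAffine (W : Scheme) := hW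
  haveI : U.ι.IsOver SC := ⟨rfl⟩
  haveI : V.ι.IsOver SC := ⟨rfl⟩
  haveI : LocallyOfFiniteType ((U : Scheme) ↘ SC) := inferInstanceAs (LocallyOfFiniteType (U.ι ≫ X ↘ SC))
  haveI : LocallyOfFiniteType ((V : Scheme) ↘ SC) := inferInstanceAs (LocallyOfFiniteType (V.ι ≫ Y ↘ SC))
  replace hUW : U ≤ f ⁻¹ᵁ W := hUW
  replace hVW : V ≤ g ⁻¹ᵁ W := hVW
  let f' := f.resLE W U hUW
  let g' := g.resLE W V hVW
  haveI : f'.IsOver SC := ⟨by
    change f.resLE W U hUW ≫ W.ι ≫ (S ↘ SC) = U.ι ≫ (X ↘ SC)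
    rw [← Category.assoc, Scheme.Hom.resLE_comp_ι, Category.assoc, comp_over f]⟩
  haveI : g'.IsOver SC := ⟨by
    change g.resLE W V hVW ≫ W.ι ≫ (S ↘ SC) = V.ι ≫ (Y ↘ SC)
    rw [← Category.assoc, Scheme.Hom.resLE_comp_ι, Category.assoc, comp_over g]⟩
  let j : pullback f' g' ⟶ pullback f g :=
    pullback.map f' g' f g U.ι V.ι W.ι (Scheme.Hom.resLE_comp_ι f hUW) (Scheme.Hom.resLE_comp_ι g hVW)
  haveI : IsOpenImmersion j := inferInstanceAs (IsOpenImmersion (pullback.map f' g' f g U.ι V.ι W.ι _ _))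
  have hjf : j ≫ pullback.fst f g = pullback.fst f' g' ≫ U.ι := pullback.lift_fst _ _ _
  have hjs : j ≫ pullback.snd f g = pullback.snd f' g' ≫ V.ι := pullback.lift_snd _ _ _
  haveI : j.IsOver SC := ⟨by
    change j ≫ pullback.fst f g ≫ (X ↘ SC) = pullback.fst f' g' ≫ U.ι ≫ (X ↘ SC)
    rw [← Category.assoc, hjf, Category.assoc]⟩
  obtain ⟨w, rfl⟩ : z ∈ Set.range (Pts.map j) := by
    rw [range_map_of_isOpenImmersion]
    change z.pt ∈ Set.range (pullback.map f' g' f g U.ι V.ι W.ι _ _)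
    rw [Scheme.Pullback.range_map]
    exact ⟨⟨⟨_, hzU⟩, rfl⟩, ⟨⟨_, hzV⟩, rfl⟩⟩
  have hcomm : ∀ v, pairMap f g (Pts.map j v) = Prod.map (Pts.map U.ι) (Pts.map V.ι) (pairMap f' g' v) :=
    fun v => Prod.ext
      (Subtype.ext (show (v.1 ≫ j) ≫ pullback.fst f g = (v.1 ≫ pullback.fst f' g') ≫ U.ι by
        rw [Category.assoc, Category.assoc, hjf]))
      (Subtype.ext (show (v.1 ≫ j) ≫ pullback.snd f g = (v.1 ≫ pullback.snd f' g') ≫ V.ι by
        rw [Category.assoc, Category.assoc, hjs]))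
  have hj := isOpenEmbedding_map j
  have hUV := (isOpenEmbedding_map U.ι).prodMap (isOpenEmbedding_map V.ι)
  have h1 : Pts.map j ⁻¹' N ∈ 𝓝 w := (Pts.continuous_map j).continuousAt hN
  rw [(isInducing_pairMap_affine f' g').nhds_eq_comap, Filter.mem_comap] at h1
  obtain ⟨T, hT, hTN⟩ := h1
  refine Filter.mem_comap.2 ⟨Prod.map (Pts.map U.ι) (Pts.map V.ι) '' T, ?_, fun v hv => ?_⟩
  · rw [hcomm, ← hUV.map_nhds_eq]
    exact Filter.image_mem_map hT
  · obtain ⟨⟨a, b⟩, hab, he⟩ := hv
    obtain ⟨v, rfl⟩ : v ∈ Set.range (Pts.map j) := by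
      rw [range_map_of_isOpenImmersion]
      change v.pt ∈ Set.range (pullback.map f' g' f g U.ι V.ι W.ι _ _)
      rw [Scheme.Pullback.range_map]
      have ha := congrArg Pts.pt (congrArg Prod.fst he)
      have hb := congrArg Pts.pt (congrArg Prod.snd he)
      simp only [pairMap, Prod.map_fst, Prod.map_snd, Pts.pt_map] at ha hb
      exact ⟨⟨a.pt, ha⟩, ⟨b.pt, hb⟩⟩
    rw [hcomm] at he
    have := hUV.injective he
    exact hTN (show pairMap f' g' v ∈ T from this ▸ hab)

end Groth.Agent.AnPts
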