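import Groth.Agent.AnPts.Closure
import Groth.Agent.AnPts.Pullback
import Mathlib.AlgebraicGeometry.Morphisms.Separated
import Mathlib.AlgebraicGeometry.Morphisms.FiniteType
import Mathlib.Topology.SeparatedMap

/-!
# Separatedness on complex points
-/

set_option autoImplicit false

open AlgebraicGeometry CategoryTheory Limits TopologicalSpace Topology
open An

namespace Groth.Agent.AnPts

variable {X Y S : Scheme.{0}} [X.Over SC] [Y.Over SC] [S.Over SC]

theorem locallyOfFiniteType_of_over [LocallyOfFiniteType (X ↘ SC)] (f : X ⟶ Y) [f.IsOver SC] :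
    LocallyOfFiniteType f := by
  haveI : LocallyOfFiniteType (f ≫ Y ↘ SC) := by rw [comp_over f]; infer_instance
  exact locallyOfFiniteType_of_comp f (Y ↘ SC)

theorem isHomeomorph_pairMap [LocallyOfFiniteType (X ↘ SC)] [LocallyOfFiniteType (Y ↘ SC)]
    (f : X ⟶ S) (g : Y ⟶ S) [f.IsOver SC] [g.IsOver SC] :
    IsHomeomorph (fun z : Pts (pullback f g) =>
      (⟨(Pts.map (pullback.fst f g) z, Pts.map (pullback.snd f g) z), Pts.map_pullback_condition f g z⟩ :
        {q : Pts X × Pts Y // Pts.map f q.1 = Pts.map g q.2})) := by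
  refine isHomeomorph_iff_isEmbedding_surjective.2 ⟨?_, fun ⟨⟨x, y⟩, h⟩ => ?_⟩
  · exact (isEmbedding_pairMap f g).codRestrict
      {q : Pts X × Pts Y | Pts.map f q.1 = Pts.map g q.2} (fun z => Pts.map_pullback_condition f g z)
  · obtain ⟨z, hz⟩ := exists_pairMap f g x y h
    exact ⟨z, Subtype.ext hz⟩

theorem isSeparated_iff [LocallyOfFiniteType (X ↘ SC)] (f : X ⟶ Y) [f.IsOver SC] :
    IsSeparated f ↔ IsSeparatedMap (Pts.map f) := by
  haveI := locallyOfFiniteType_of_over f
  haveI : LocallyOfFiniteType (pullback f f ↘ SC) :=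
    inferInstanceAs (LocallyOfFiniteType (pullback.fst f f ≫ X ↘ SC))
  haveI : (pullback.diagonal f).IsOver SC := ⟨by
    change pullback.diagonal f ≫ pullback.fst f f ≫ (X ↘ SC) = X ↘ SC
    rw [← Category.assoc, pullback.diagonal_fst, Category.id_comp]⟩
  have hloc : IsLocallyConstructible (Set.range (pullback.diagonal f)) := by
    obtain ⟨U, Z, hU, hZ, hUZ⟩ := (pullback.diagonal f).isLocallyClosed_range
    rw [hUZ, ← compl_compl U]
    exact (isLocallyConstructible_compl (isLocallyConstructible_of_isClosed hU.isClosed_compl)).inter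
      (isLocallyConstructible_of_isClosed hZ)
  have h1 : IsSeparated f ↔ IsClosed (Set.range (pullback.diagonal f)) := by
    refine ⟨fun h => h.isClosedImmersion_diagonal.base_closed.isClosed_range, fun h => ⟨?_⟩⟩
    exact IsClosedImmersion.iff_isPreimmersion.2 ⟨inferInstance, h⟩
  let φ := (isHomeomorph_pairMap f f).homeomorph
  have h2 : Pts.pt ⁻¹' Set.range (pullback.diagonal f) =
      φ ⁻¹' (Function.pullbackDiagonal (Pts.map f)) := by
    rw [← range_map_eq]
    ext z
    constructor
    · rintro ⟨x, rfl⟩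
      refine Subtype.ext ?_
      change (x.1 ≫ pullback.diagonal f) ≫ pullback.fst f f = (x.1 ≫ pullback.diagonal f) ≫ pullback.snd f f
      rw [Category.assoc, Category.assoc, pullback.diagonal_fst, pullback.diagonal_snd]
    · intro h
      have h' : z.1 ≫ pullback.fst f f = z.1 ≫ pullback.snd f f := congrArg Subtype.val h
      refine ⟨Pts.map (pullback.fst f f) z, Subtype.ext (pullback.hom_ext ?_ ?_)⟩
      · simp
      · simpa using h'
  rw [h1, isClosed_iff hloc, h2, φ.isClosed_preimage, ← isSeparatedMap_iff_isClosed_diagonal]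

end Groth.Agent.AnPts
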