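import Groth.Agent.AnPts.Basic
import Mathlib.AlgebraicGeometry.AffineSpace
import Mathlib.Analysis.Calculus.FDeriv.Mul
import Mathlib.Analysis.Calculus.FDeriv.Pi

/-!
# Sections are locally rational functions of the coordinates
-/

set_option autoImplicit false

open AlgebraicGeometry CategoryTheory TopologicalSpace Topology
open An

namespace Groth.Agent.AnPts

variable {X : Scheme.{0}} [X.Over SC]

theorem exists_ev_eq_div {W U : X.Opens} (hW : IsAffineOpen W) (f : Γ(X, U)) {x : Pts X}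
    (hxU : x.pt ∈ U) (hxW : x.pt ∈ W) :
    ∃ (b c : Γ(X, W)) (m : ℕ), x.ev W hxW b ≠ 0 ∧ ∀ (y : Pts X) (hy : y.pt ∈ W), y.ev W hy b ≠ 0 →
      ∃ h : y.pt ∈ U, y.ev U h f = y.ev W hy c / y.ev W hy b ^ m := by
  obtain ⟨b, hbU, hxb⟩ := hW.exists_basicOpen_le ⟨x.pt, hxU⟩ hxW
  haveI := hW.isLocalization_basicOpen b
  obtain ⟨⟨c, ⟨_, m, rfl⟩⟩, hc⟩ :=
    IsLocalization.surj (Submonoid.powers b) (X.presheaf.map (homOfLE hbU).op f)
  refine ⟨b, c, m, (ev_ne_zero_iff x hxW b).2 hxb, fun y hy hyb => ?_⟩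
  have hyb' : y.pt ∈ X.basicOpen b := (ev_ne_zero_iff y hy b).1 hyb
  refine ⟨hbU hyb', ?_⟩
  have h1 := congrArg (evHom y _ hyb') hc
  simp only [map_mul, map_pow, RingHom.algebraMap_toAlgebra] at h1
  rw [eq_div_iff (pow_ne_zero m hyb), ← ev_res y hbU hyb' f,
    ← ev_res y (X.basicOpen_le b) hyb' b, ← ev_res y (X.basicOpen_le b) hyb' c]
  exact h1

theorem evTop_eval₂Hom {n : ℕ} (s : Fin n → Γ(X, ⊤)) (x : Pts X) (q : MvPolynomial (Fin n) ℂ) :
    x.evTop (MvPolynomial.eval₂Hom (strHom X) s q) = MvPolynomial.eval (fun i => x.evTop (s i)) q :=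
  RingHom.congr_fun (MvPolynomial.ringHom_ext
    (f := (evHom x ⊤ (Opens.mem_top _)).comp (MvPolynomial.eval₂Hom (strHom X) s))
    (g := MvPolynomial.eval (fun i => x.evTop (s i)))
    (fun c => by simpa [evHom_apply] using ev_strHom x c) (fun i => by simp [evHom_apply])) q

theorem bijective_coord (n : ℕ) :
    Function.Bijective (MvPolynomial.eval₂Hom (strHom 𝔸(Fin n; SC)) (AffineSpace.coord SC)) := by
  haveI : IsIso (AffineSpace.SpecIso (Fin n) (CommRingCat.of ℂ)).hom.appTop :=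
    ⟨(AffineSpace.SpecIso (Fin n) (CommRingCat.of ℂ)).inv.appTop,
      by rw [← Scheme.Hom.comp_appTop, Iso.inv_hom_id, Scheme.Hom.id_appTop],
      by rw [← Scheme.Hom.comp_appTop, Iso.hom_inv_id, Scheme.Hom.id_appTop]⟩
  have h := ConcreteCategory.bijective_of_isIso (AffineSpace.SpecIso (Fin n) (CommRingCat.of ℂ)).hom.appTop
  rw [AffineSpace.SpecIso_hom_appTop] at h
  have h2 : Function.Bijective (Scheme.ΓSpecIso (CommRingCat.of (MvPolynomial (Fin n) ℂ))).inv :=
    ConcreteCategory.bijective_of_isIso _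
  convert! h.comp h2 using 1
  funext q
  simp only [Function.comp_apply, CommRingCat.comp_apply]
  rw [← CommRingCat.comp_apply (Scheme.ΓSpecIso (CommRingCat.of (MvPolynomial (Fin n) ℂ))).inv, Iso.inv_hom_id]
  rfl

theorem differentiable_eval {n : ℕ} (q : MvPolynomial (Fin n) ℂ) :
    Differentiable ℂ (fun v => MvPolynomial.eval v q) := by
  induction q using MvPolynomial.induction_on with
  | C a => simpa using differentiable_const a
  | add p q hp hq =>
    simp only [map_add]
    exact hp.add hq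
  | mul_X p i hp =>
    simp only [map_mul, MvPolynomial.eval_X]
    exact hp.mul (differentiable_apply i)

end Groth.Agent.AnPts
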