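import Groth.Agent.AnPts.Algebra
import Mathlib.Analysis.Complex.Basic
import Mathlib.Algebra.Polynomial.Derivative
import Mathlib.Algebra.Ring.GeomSum
import Mathlib.Topology.Algebra.Polynomial

/-!
# Continuity of simple roots
-/

set_option autoImplicit false

open Polynomial Topology Filter

namespace Groth.Agent.AnPts

variable {Z : Type*} [TopologicalSpace Z] {R : Type*} [CommRing R]

theorem exists_root_near (p : ℂ[X]) (hp : p.Monic) (hd : 0 < p.natDegree) (t : ℂ) :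
    ∃ r : ℂ, p.eval r = 0 ∧ ‖r - t‖ ^ p.natDegree ≤ ‖p.eval t‖ := by
  obtain ⟨c, hc, hle⟩ := exists_root_norm_pow_le (p.comp (X + C t)) (hp.comp_X_add_C t)
    (by simpa [natDegree_comp] using hd)
  refine ⟨c + t, by simpa [eval_comp] using hc, ?_⟩
  simpa [natDegree_comp, eval_comp] using hle

/-- The divided difference of `P` at `(a, b)` with coefficients specialised by `φ`. -/
noncomputable def divDiff (φ : R →+* ℂ) (P : R[X]) (a b : ℂ) : ℂ :=
  ∑ i ∈ Finset.range (P.natDegree + 1), φ (P.coeff i) * ∑ j ∈ Finset.range i, a ^ j * b ^ (i - 1 - j)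

theorem divDiff_mul (φ : R →+* ℂ) (P : R[X]) (a b : ℂ) :
    divDiff φ P a b * (a - b) = P.eval₂ φ a - P.eval₂ φ b := by
  rw [divDiff, eval₂_eq_sum_range, eval₂_eq_sum_range, ← Finset.sum_sub_distrib, Finset.sum_mul]
  refine Finset.sum_congr rfl fun i _ => ?_
  rw [mul_assoc, geom_sum₂_mul, mul_sub]

theorem divDiff_self (φ : R →+* ℂ) (P : R[X]) (t : ℂ) :
    divDiff φ P t t = P.derivative.eval₂ φ t := by
  rw [divDiff, derivative_apply, sum_over_range _ (by simp), eval₂_finsetSum]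
  refine Finset.sum_congr rfl fun i _ => ?_
  rw [geom_sum₂_self]
  simp [mul_assoc]

theorem exists_simple_root_nhd (φ : Z → R →+* ℂ) (hφ : ∀ a, Continuous fun z => φ z a) (P : R[X])
    (hP : P.Monic) {z0 : Z} {t0 : ℂ} (h0 : P.eval₂ (φ z0) t0 = 0) (h1 : P.derivative.eval₂ (φ z0) t0 ≠ 0) :
    ∃ (O : Set Z) (B : Set ℂ) (σ : Z → ℂ), IsOpen O ∧ IsOpen B ∧ z0 ∈ O ∧ t0 ∈ B ∧ ContinuousOn σ O ∧
      (∀ z ∈ O, σ z ∈ B ∧ P.eval₂ (φ z) (σ z) = 0) ∧
      ∀ z ∈ O, ∀ t ∈ B, P.eval₂ (φ z) t = 0 → t = σ z := by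
  have hd : 0 < P.natDegree := by
    refine Nat.pos_of_ne_zero fun h => h1 ?_
    rw [eq_one_of_monic_natDegree_zero hP h]
    simp
  have hev : ∀ t, Continuous fun z => P.eval₂ (φ z) t := fun t => by
    simp only [eval₂_eq_sum_range]
    exact continuous_finsetSum _ fun i _ => (hφ _).mul continuous_const
  have hD : Continuous fun p : Z × ℂ × ℂ => divDiff (φ p.1) P p.2.1 p.2.2 :=
    continuous_finsetSum _ fun i _ => ((hφ _).comp continuous_fst).mul
      (continuous_finsetSum _ fun j _ => ((continuous_fst.comp continuous_snd).pow j).mul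
        ((continuous_snd.comp continuous_snd).pow _))
  have hne : ∀ᶠ p in 𝓝 (z0, t0, t0), divDiff (φ p.1) P p.2.1 p.2.2 ≠ 0 :=
    hD.continuousAt.eventually_ne (by rwa [divDiff_self])
  rw [nhds_prod_eq, eventually_prod_iff] at hne
  obtain ⟨pa, hpa, pb, hpb, hab⟩ := hne
  rw [nhds_prod_eq, eventually_prod_iff] at hpb
  obtain ⟨pc, hpc, pd, hpd, hcd⟩ := hpb
  obtain ⟨δ, hδ, hδsub⟩ := Metric.eventually_nhds_iff.1 (hpc.and hpd)
  obtain ⟨O0, hO0sub, hO0, hz0⟩ := eventually_nhds_iff.1 hpa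
  let O : Set Z := O0 ∩ {z | ‖P.eval₂ (φ z) t0‖ < δ ^ P.natDegree}
  have huniq : ∀ z ∈ O, ∀ a ∈ Metric.ball t0 δ, ∀ b ∈ Metric.ball t0 δ,
      P.eval₂ (φ z) a = 0 → P.eval₂ (φ z) b = 0 → a = b := by
    intro z hz a ha b hb hra hrb
    have h := hab (hO0sub z hz.1) (hcd (hδsub ha).1 (hδsub hb).2)
    have h2 := divDiff_mul (φ z) P a b
    rw [hra, hrb, sub_zero] at h2
    exact sub_eq_zero.1 ((mul_eq_zero.1 h2).resolve_left h)
  have hex : ∀ (z : Z) (t : ℂ) (ε : ℝ), 0 < ε → ‖P.eval₂ (φ z) t‖ < ε ^ P.natDegree →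
      ∃ r, P.eval₂ (φ z) r = 0 ∧ ‖r - t‖ < ε := by
    intro z t ε hε h
    obtain ⟨r, hr, hle⟩ := exists_root_near (P.map (φ z)) (hP.map _) (by rwa [hP.natDegree_map]) t
    rw [eval_map] at hr hle
    rw [hP.natDegree_map] at hle
    exact ⟨r, hr, lt_of_pow_lt_pow_left₀ _ hε.le (hle.trans_lt h)⟩
  have hσ : ∀ z ∈ O, ∃ r, r ∈ Metric.ball t0 δ ∧ P.eval₂ (φ z) r = 0 := fun z hz => by
    obtain ⟨r, hr, hlt⟩ := hex z t0 δ hδ hz.2
    exact ⟨r, by rwa [Metric.mem_ball, dist_eq_norm], hr⟩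
  classical
  let σ : Z → ℂ := fun z => if hz : z ∈ O then (hσ z hz).choose else t0
  have hσspec : ∀ z ∈ O, σ z ∈ Metric.ball t0 δ ∧ P.eval₂ (φ z) (σ z) = 0 := fun z hz => by
    simp only [σ, dif_pos hz]
    exact (hσ z hz).choose_spec
  have hOopen : IsOpen O := hO0.inter (isOpen_lt (hev t0).norm continuous_const)
  refine ⟨O, Metric.ball t0 δ, σ, hOopen, Metric.isOpen_ball, ⟨hz0, ?_⟩, Metric.mem_ball_self hδ, ?_, hσspec,
    fun z hz t ht hr => huniq z hz t ht _ (hσspec z hz).1 hr (hσspec z hz).2⟩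
  · change ‖P.eval₂ (φ z0) t0‖ < δ ^ P.natDegree
    rw [h0, norm_zero]
    exact pow_pos hδ _
  · intro z1 hz1
    refine ContinuousAt.continuousWithinAt (Metric.tendsto_nhds.2 fun ε hε => ?_)
    have hin : 0 < δ - dist (σ z1) t0 := sub_pos.2 (hσspec z1 hz1).1
    let ε' := min ε (δ - dist (σ z1) t0)
    have hsmall : ∀ᶠ z in 𝓝 z1, ‖P.eval₂ (φ z) (σ z1)‖ < ε' ^ P.natDegree :=
      (hev (σ z1)).norm.continuousAt.eventually_lt_const (by
        beta_reduce
        rw [(hσspec z1 hz1).2, norm_zero]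
        exact pow_pos (lt_min hε hin) _)
    filter_upwards [hsmall, hOopen.mem_nhds hz1] with z hz hzO
    obtain ⟨r, hr, hlt⟩ := hex z (σ z1) ε' (lt_min hε hin) hz
    have hrB : r ∈ Metric.ball t0 δ := by
      have h1' := dist_triangle r (σ z1) t0
      have h2 : dist r (σ z1) < δ - dist (σ z1) t0 := by
        rw [dist_eq_norm]; exact hlt.trans_le (min_le_right _ _)
      rw [Metric.mem_ball]
      linarith
    rw [huniq z hzO _ (hσspec z hzO).1 r hrB (hσspec z hzO).2 hr, dist_eq_norm]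
    exact hlt.trans_le (min_le_left _ _)

end Groth.Agent.AnPts
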