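import Groth.Agent.AnPts.Pullback
import Groth.Agent.AnPts.Rational
import Groth.Agent.AnPts.RootCont
import Mathlib.RingTheory.Unramified.LocalStructure
import Mathlib.AlgebraicGeometry.Morphisms.Etale
import Mathlib.Topology.IsLocalHomeomorph

/-!
# Etale morphisms induce local homeomorphisms on complex points
-/

set_option autoImplicit false

open AlgebraicGeometry CategoryTheory TopologicalSpace Topology Polynomial
open An

namespace Groth.Agent.AnPts

variable {X Y : Scheme.{0}} [X.Over SC] [Y.Over SC]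

theorem isLocalHomeomorph_of_standardEtale [IsAffine X] [IsAffine Y] [LocallyOfFiniteType (X ↘ SC)]
    (g : X ⟶ Y) [g.IsOver SC] [Algebra Γ(Y, ⊤) Γ(X, ⊤)]
    (halg : algebraMap Γ(Y, ⊤) Γ(X, ⊤) = g.appTop.hom)
    (P : StandardEtalePresentation Γ(Y, ⊤) Γ(X, ⊤)) :
    IsLocalHomeomorph (Pts.map g) := by
  have hga : ∀ (z : Pts X) (a : Γ(Y, ⊤)), z.evTop (algebraMap _ _ a) = (Pts.map g z).evTop a := fun z a => by
    rw [halg, evTop_map]
  have hp : ∀ (z : Pts X) (q : Γ(Y, ⊤)[X]), z.evTop (Polynomial.aeval P.x q) =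
      q.eval₂ (evHom (Pts.map g z) ⊤ (Opens.mem_top _)) (z.evTop P.x) := by
    intro z q
    change evHom z ⊤ (Opens.mem_top _) _ = _
    rw [Polynomial.aeval_def, Polynomial.hom_eval₂]
    congr 1
    exact RingHom.ext (hga z)
  let φ : Pts Y → Γ(Y, ⊤) →+* ℂ := fun y => evHom y ⊤ (Opens.mem_top _)
  refine isLocalHomeomorph_iff_isOpenEmbedding_restrict.2 fun x => ?_
  have h0 : P.f.eval₂ (φ (Pts.map g x)) (x.evTop P.x) = 0 := by
    rw [← hp x, P.hasMap.1]
    exact map_zero (evHom x ⊤ (Opens.mem_top _))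
  have hg' : ∀ z : Pts X, P.g.eval₂ (φ (Pts.map g z)) (z.evTop P.x) ≠ 0 := fun z => by
    rw [← hp z]
    exact (P.hasMap.2.map (evHom z ⊤ (Opens.mem_top _))).ne_zero
  have h1 : P.f.derivative.eval₂ (φ (Pts.map g x)) (x.evTop P.x) ≠ 0 := by
    rw [← hp x]
    exact (P.hasMap.isUnit_derivative_f.map (evHom x ⊤ (Opens.mem_top _))).ne_zero
  obtain ⟨O, B, σ, hO, hB, hxO, hxB, hσ, hσspec, huniq⟩ :=
    exists_simple_root_nhd φ (fun a => continuous_evTop a) P.f P.monic_f h0 h1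
  let gg : Pts Y → ℂ := fun y => P.g.eval₂ (φ y) (σ y)
  have hgg : ∀ q : Γ(Y, ⊤)[X], ContinuousOn (fun y => q.eval₂ (φ y) (σ y)) O := fun q => by
    simp only [Polynomial.eval₂_eq_sum_range]
    exact continuousOn_finsetSum _ fun i _ => (continuous_evTop _).continuousOn.mul (hσ.pow i)
  let O' : Set (Pts Y) := O ∩ gg ⁻¹' {0}ᶜ
  have hO' : IsOpen O' := (hgg P.g).isOpen_inter_preimage hO isOpen_compl_singleton
  let S : Set (Pts X) := Pts.map g ⁻¹' O ∩ (fun z => z.evTop P.x) ⁻¹' B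
  have hS : IsOpen S := (hO.preimage (Pts.continuous_map g)).inter (hB.preimage (continuous_evTop _))
  have hmem : ∀ z ∈ S, z.evTop P.x = σ (Pts.map g z) := fun z hz =>
    huniq _ hz.1 _ hz.2 (by rw [← hp z, P.hasMap.1]; exact map_zero (evHom z ⊤ (Opens.mem_top _)))
  refine ⟨S, hS.mem_nhds ⟨hxO, hxB⟩, ?_⟩
  obtain ⟨N, s, hs⟩ := exists_generators X
  choose p m hpm using fun i => P.exists_mul_aeval_x_g_pow_eq_aeval_x (s i)
  let r : S → O' := fun z => ⟨Pts.map g z.1, z.2.1, by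
    have h := hg' z.1
    rwa [hmem z.1 z.2] at h⟩
  let k : O' → (Fin N → ℂ) := fun y i => (p i).eval₂ (φ y.1) (σ y.1) / gg y.1 ^ m i
  have hk : Continuous k := continuous_pi fun i =>
    (((hgg (p i)).mono Set.inter_subset_left).div ((((hgg P.g).mono Set.inter_subset_left)).pow (m i))
      fun y hy => pow_ne_zero _ hy.2).restrict
  have hr : Continuous r := ((Pts.continuous_map g).comp continuous_subtype_val).subtype_mk _
  have hemb : IsEmbedding r := by
    refine IsEmbedding.of_comp hr hk ?_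
    convert! ((isEmbedding_of_generators s hs).1.comp IsEmbedding.subtypeVal : IsEmbedding _) using 1
    funext z i
    change _ / _ = z.1.evTop (s i)
    have h := congrArg z.1.evTop (hpm i)
    rw [hp z.1] at h
    change evHom z.1 ⊤ (Opens.mem_top _) _ = _ at h
    rw [map_mul, map_pow] at h
    change z.1.evTop (s i) * z.1.evTop (Polynomial.aeval P.x P.g) ^ m i = _ at h
    rw [hp z.1, hmem z.1 z.2] at h
    rw [div_eq_iff (pow_ne_zero _ (r z).2.2)]
    exact h.symm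
  have hsurj : Function.Surjective r := by
    rintro ⟨y, hyO, hyg⟩
    letI : Algebra Γ(Y, ⊤) ℂ := (φ y).toAlgebra
    have hm : P.P.HasMap (σ y) := by
      refine ⟨?_, isUnit_iff_ne_zero.2 ?_⟩ <;> rw [Polynomial.aeval_def, RingHom.algebraMap_toAlgebra]
      · exact (hσspec y hyO).2
      · exact hyg
    let ψ : Γ(X, ⊤) →ₐ[Γ(Y, ⊤)] ℂ := (P.P.lift (σ y) hm).comp P.equivRing.toAlgHom
    obtain ⟨z, hz⟩ := exists_of_hom ψ.toRingHom fun c => by
      rw [← strHom_app g c]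
      change ψ (g.appTop.hom _) = c
      rw [← halg]
      exact (ψ.commutes _).trans (ev_strHom y c)
    have hzy : Pts.map g z = y := ext_of_affine fun a => by
      rw [← hga, hz]
      exact ψ.commutes a
    have hzx : z.evTop P.x = σ y := by
      rw [hz]
      simp [ψ]
    exact ⟨⟨z, by
      refine ⟨?_, ?_⟩
      · change Pts.map g z ∈ O
        rwa [hzy]
      · change z.evTop P.x ∈ B
        rw [hzx]
        exact (hσspec y hyO).1⟩, Subtype.ext hzy⟩
  have h2 : IsOpenEmbedding r := ⟨hemb, by rw [hsurj.range_eq]; exact isOpen_univ⟩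
  exact hO'.isOpenEmbedding_subtypeVal.comp h2

theorem isLocalHomeomorph_map_of_affine [IsAffine X] [IsAffine Y] [LocallyOfFiniteType (X ↘ SC)]
    (g : X ⟶ Y) [g.IsOver SC] [Etale g] : IsLocalHomeomorph (Pts.map g) := by
  letI alg : Algebra Γ(Y, ⊤) Γ(X, ⊤) := g.appTop.hom.toAlgebra
  have het : RingHom.Etale g.appTop.hom := (HasRingHomProperty.iff_of_isAffine (P := @Etale)).1 inferInstance
  haveI : Algebra.Etale Γ(Y, ⊤) Γ(X, ⊤) := het
  refine isLocalHomeomorph_iff_isLocalHomeomorphOn_univ.2 fun x _ => ?_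
  let Q := RingHom.ker (evHom x ⊤ (Opens.mem_top _))
  haveI : Q.IsPrime := RingHom.ker_isPrime _
  obtain ⟨f, hfQ, hf⟩ := Algebra.IsEtaleAt.exists_isStandardEtale (R := Γ(Y, ⊤)) Q
  let U : X.Opens := X.basicOpen f
  have hxU : x.pt ∈ U := (ev_ne_zero_iff x (Opens.mem_top _) f).1 hfQ
  have hU : IsAffineOpen U := (isAffineOpen_top X).basicOpen f
  haveI := (isAffineOpen_top X).isLocalization_basicOpen f
  letI : (U : Scheme).Over SC := opensOver U
  haveI : U.ι.IsOver SC := ⟨rfl⟩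
  haveI : IsAffine (U : Scheme) := hU
  haveI : LocallyOfFiniteType ((U : Scheme) ↘ SC) := inferInstanceAs (LocallyOfFiniteType (U.ι ≫ X ↘ SC))
  letI : Algebra Γ(Y, ⊤) Γ(U, ⊤) := (U.ι ≫ g).appTop.hom.toAlgebra
  let e0 : Localization.Away f ≃ₐ[Γ(X, ⊤)] Γ(X, U) := IsLocalization.algEquiv (Submonoid.powers f) _ _
  let e : Localization.Away f ≃+* Γ(U, ⊤) :=
    e0.toRingEquiv.trans U.topIso.symm.commRingCatIsoToRingEquiv
  let e' : Localization.Away f ≃ₐ[Γ(Y, ⊤)] Γ(U, ⊤) := AlgEquiv.ofRingEquiv (f := e) fun a => by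
    rw [IsScalarTower.algebraMap_apply Γ(Y, ⊤) Γ(X, ⊤) (Localization.Away f)]
    change U.topIso.inv (e0 (algebraMap Γ(X, ⊤) _ (g.appTop a))) = (U.ι ≫ g).appTop a
    rw [e0.commutes, Scheme.Hom.comp_appTop, CommRingCat.comp_apply, Scheme.Opens.ι_appTop,
      RingHom.algebraMap_toAlgebra]
    rw [← CommRingCat.comp_apply]
    congr 2
    simp only [Scheme.Opens.topIso_inv]
    exact (X.presheaf.map_comp _ _).symm.trans (congrArg X.presheaf.map (Subsingleton.elim _ _))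
  haveI := Algebra.IsStandardEtale.of_equiv e'
  obtain ⟨P⟩ := Algebra.IsStandardEtale.nonempty_standardEtalePresentation (R := Γ(Y, ⊤)) (S := Γ(U, ⊤))
  have h := isLocalHomeomorph_of_standardEtale (U.ι ≫ g) rfl P
  have hj := (isOpenEmbedding_map U.ι).isLocalHomeomorph
  have hc : Pts.map (U.ι ≫ g) = Pts.map g ∘ Pts.map U.ι := funext fun z => Pts.map_comp _ _ z
  rw [hc] at h
  have := h.isLocalHomeomorphOn.of_comp_right hj.isLocalHomeomorphOn (s := Set.univ)
  refine this x ?_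
  rw [Set.image_univ, range_map_of_isOpenImmersion]
  exact ⟨⟨x.pt, hxU⟩, rfl⟩

theorem isLocalHomeomorph_map [LocallyOfFiniteType (Y ↘ SC)] (g : X ⟶ Y) [g.IsOver SC] [Etale g] :
    IsLocalHomeomorph (Pts.map g) := by
  haveI : LocallyOfFiniteType (X ↘ SC) := by rw [← comp_over g (S := SC)]; infer_instance
  refine isLocalHomeomorph_iff_isLocalHomeomorphOn_univ.2 fun x _ => ?_
  obtain ⟨_, ⟨(W : Y.Opens), hW, rfl⟩, hxW, -⟩ := Y.isBasis_affineOpens.exists_subset_of_mem_open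
    (Set.mem_univ (g x.pt)) isOpen_univ
  obtain ⟨_, ⟨(U : X.Opens), hU, rfl⟩, hxU, hUW⟩ := X.isBasis_affineOpens.exists_subset_of_mem_open
    (show x.pt ∈ g ⁻¹ᵁ W from hxW) (g ⁻¹ᵁ W).isOpen
  replace hUW : U ≤ g ⁻¹ᵁ W := hUW
  letI : (U : Scheme).Over SC := opensOver U
  letI : (W : Scheme).Over SC := opensOver W
  haveI : U.ι.IsOver SC := ⟨rfl⟩
  haveI : W.ι.IsOver SC := ⟨rfl⟩
  haveI : IsAffine (U : Scheme) := hU
  haveI : IsAffine (W : Scheme) := hW
  haveI : LocallyOfFiniteType ((U : Scheme) ↘ SC) := inferInstanceAs (LocallyOfFiniteType (U.ι ≫ X ↘ SC))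
  let g' := g.resLE W U hUW
  haveI : g'.IsOver SC := ⟨by
    change g.resLE W U hUW ≫ W.ι ≫ (Y ↘ SC) = U.ι ≫ (X ↘ SC)
    rw [← Category.assoc, Scheme.Hom.resLE_comp_ι, Category.assoc, comp_over g]⟩
  have h1 := (isOpenEmbedding_map W.ι).isLocalHomeomorph.comp (isLocalHomeomorph_map_of_affine g')
  have hc : Pts.map W.ι ∘ Pts.map g' = Pts.map g ∘ Pts.map U.ι := funext fun z => Subtype.ext (by
    change (z.1 ≫ g') ≫ W.ι = (z.1 ≫ U.ι) ≫ g
    rw [Category.assoc, Category.assoc, Scheme.Hom.resLE_comp_ι])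
  rw [hc] at h1
  have := h1.isLocalHomeomorphOn.of_comp_right (isOpenEmbedding_map U.ι).isLocalHomeomorph.isLocalHomeomorphOn
    (s := Set.univ)
  refine this x ?_
  rw [Set.image_univ, range_map_of_isOpenImmersion]
  exact ⟨⟨x.pt, hxU⟩, rfl⟩

end Groth.Agent.AnPts
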