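import Groth.Prelude.Def_AnPts
import Mathlib.AlgebraicGeometry.Morphisms.ClosedImmersion
import Mathlib.AlgebraicGeometry.Morphisms.Immersion
import Mathlib.AlgebraicGeometry.AlgClosed.Basic
import Mathlib.Analysis.Complex.Basic
import Mathlib.Topology.Algebra.MvPolynomial

/-!
# The complex topology on ℂ-points: evaluation, affine opens, open and closed immersions
-/

set_option autoImplicit false

open AlgebraicGeometry CategoryTheory TopologicalSpace Opposite Topology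
open An

namespace Groth.Agent.AnPts

variable {X : Scheme.{0}} [X.Over SC]

/-- Evaluation at a point as a ring homomorphism. -/
noncomputable def evHom (x : Pts X) (U : X.Opens) (h : x.pt ∈ U) : Γ(X, U) →+* ℂ :=
  (x.1.appLE U ⊤ (Pts.top_le_preimage x h) ≫ (Scheme.ΓSpecIso (CommRingCat.of ℂ)).hom).hom

theorem evHom_apply (x : Pts X) (U : X.Opens) (h : x.pt ∈ U) (f : Γ(X, U)) :
    evHom x U h f = x.ev U h f := rfl

theorem ev_res (x : Pts X) {U V : X.Opens} (i : V ≤ U) (h : x.pt ∈ V) (f : Γ(X, U)) :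
    x.ev V h (X.presheaf.map (homOfLE i).op f) = x.ev U (i h) f := by
  unfold Pts.ev
  rw [← CommRingCat.comp_apply (X.presheaf.map (homOfLE i).op) (x.1.appLE V ⊤ (Pts.top_le_preimage x h)),
    Scheme.Hom.map_appLE]

theorem ev_ne_zero_iff (x : Pts X) {U : X.Opens} (h : x.pt ∈ U) (f : Γ(X, U)) :
    x.ev U h f ≠ 0 ↔ x.pt ∈ X.basicOpen f := by
  constructor
  · intro hne
    have hu : IsUnit (x.1.appLE U ⊤ (Pts.top_le_preimage x h) f) := by
      have h1 := (isUnit_iff_ne_zero.2 hne).map (Scheme.ΓSpecIso (CommRingCat.of ℂ)).inv.hom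
      rwa [Pts.ev, ← CommRingCat.comp_apply, Iso.hom_inv_id] at h1
    have h2 := Scheme.basicOpen_of_isUnit _ hu
    rw [Scheme.basicOpen_appLE] at h2
    exact ((le_of_eq h2.symm) (show cpt ∈ (⊤ : SC.Opens) from trivial)).2
  · intro hmem
    have h2 : IsUnit (X.presheaf.map (homOfLE (X.basicOpen_le f)).op f) :=
      RingedSpace.isUnit_res_basicOpen X.toLocallyRingedSpace.toRingedSpace f
    rw [← ev_res x (X.basicOpen_le f) hmem f]
    exact (h2.map (evHom x _ hmem)).ne_zero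

theorem ev_strHom (x : Pts X) (c : ℂ) : x.evTop (strHom X c) = c := by
  have h : (x.1 ≫ (X ↘ SC)).appTop = (𝟙 SC : SC ⟶ SC).appTop := by rw [x.2]
  rw [Scheme.Hom.comp_appTop, Scheme.Hom.id_appTop] at h
  have h2 := congrArg (fun φ => (Scheme.ΓSpecIso (CommRingCat.of ℂ)).hom
    (φ ((Scheme.ΓSpecIso (CommRingCat.of ℂ)).inv c))) h
  simp only [CommRingCat.comp_apply, CommRingCat.id_apply] at h2
  have h3 : (Scheme.ΓSpecIso (CommRingCat.of ℂ)).hom ((Scheme.ΓSpecIso (CommRingCat.of ℂ)).inv c) = c :=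
    congr($((Scheme.ΓSpecIso (CommRingCat.of ℂ)).inv_hom_id) c)
  unfold Pts.evTop Pts.ev
  rw [← h3]
  refine Eq.trans ?_ h2
  rw [h3]
  rfl

theorem ext_of_affine [IsAffine X] {x y : Pts X} (h : ∀ f : Γ(X, ⊤), x.evTop f = y.evTop f) : x = y := by
  refine Subtype.ext (ext_of_isAffine ?_)
  refine CommRingCat.hom_ext (RingHom.ext fun f => ?_)
  have hinj : Function.Injective (Scheme.ΓSpecIso (CommRingCat.of ℂ)).hom :=
    (ConcreteCategory.bijective_of_isIso _).1
  refine hinj ?_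
  have hx : ∀ z : Pts X, z.evTop f = (Scheme.ΓSpecIso (CommRingCat.of ℂ)).hom (z.1.appTop f) := fun z => by
    unfold Pts.evTop Pts.ev
    rw [Scheme.Hom.appTop, Scheme.Hom.app_eq_appLE]
    rfl
  rw [← hx, ← hx, h f]

theorem exists_of_hom [IsAffine X] (φ : Γ(X, ⊤) →+* ℂ) (hφ : ∀ c, φ (strHom X c) = c) :
    ∃ x : Pts X, ∀ f, x.evTop f = φ f := by
  let m : SC ⟶ X := Spec.map (CommRingCat.ofHom φ) ≫ X.isoSpec.inv
  have happ : m.appTop = CommRingCat.ofHom φ ≫ (Scheme.ΓSpecIso (CommRingCat.of ℂ)).inv := by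
    have h2 : X.isoSpec.inv.appTop = (Scheme.ΓSpecIso Γ(X, ⊤)).inv := by
      have h3 := congrArg Scheme.Hom.appTop X.isoSpec_inv_toSpecΓ
      rw [Scheme.Hom.comp_appTop, Scheme.Hom.id_appTop, Scheme.toSpecΓ_appTop] at h3
      exact ((Iso.inv_comp_eq _).2 (h3.symm)).symm.trans (Category.comp_id _) |>.trans rfl
    rw [Scheme.Hom.comp_appTop, h2]
    exact (Scheme.ΓSpecIso_inv_naturality (CommRingCat.ofHom φ)).symm
  have hm : m ≫ (X ↘ SC) = 𝟙 SC := by
    refine ext_of_isAffine ?_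
    rw [Scheme.Hom.comp_appTop, happ, Scheme.Hom.id_appTop, ← cancel_epi (Scheme.ΓSpecIso (CommRingCat.of ℂ)).inv]
    refine CommRingCat.hom_ext (RingHom.ext fun c => ?_)
    exact congrArg (Scheme.ΓSpecIso (CommRingCat.of ℂ)).inv (hφ c)
  refine ⟨⟨m, hm⟩, fun f => ?_⟩
  unfold Pts.evTop Pts.ev
  have h1 : m.appLE ⊤ ⊤ (Pts.top_le_preimage ⟨m, hm⟩ (Opens.mem_top _)) = m.appTop := by
    rw [Scheme.Hom.appTop, Scheme.Hom.app_eq_appLE]
    rfl
  change (Scheme.ΓSpecIso (CommRingCat.of ℂ)).hom (m.appLE ⊤ ⊤ (Pts.top_le_preimage ⟨m, hm⟩ (Opens.mem_top _)) f) = φ f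
  rw [h1, happ, CommRingCat.comp_apply]
  exact congr($((Scheme.ΓSpecIso (CommRingCat.of ℂ)).inv_hom_id) (φ f))

theorem continuous_ev (U : X.Opens) (f : Γ(X, U)) :
    Continuous fun x : ↥(Pts.pt ⁻¹' (U : Set X) : Set (Pts X)) => x.1.ev U x.2 f := by
  refine continuous_def.2 fun V hV => ?_
  have h : (fun x : ↥(Pts.pt ⁻¹' (U : Set X) : Set (Pts X)) => x.1.ev U x.2 f) ⁻¹' V =
      Subtype.val ⁻¹' Pts.basicSet U f V := by
    ext x
    exact ⟨fun h => ⟨x.2, h⟩, fun ⟨_, h⟩ => h⟩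
  rw [h]
  exact (Pts.isOpen_basicSet U f hV).preimage continuous_subtype_val

theorem continuous_evTop (f : Γ(X, ⊤)) : Continuous fun x : Pts X => x.evTop f := by
  refine continuous_def.2 fun V hV => ?_
  have h : (fun x : Pts X => x.evTop f) ⁻¹' V = Pts.basicSet ⊤ f V :=
    Set.ext fun x => ⟨fun h => ⟨Opens.mem_top _, h⟩, fun ⟨_, h⟩ => h⟩
  rw [h]
  exact Pts.isOpen_basicSet _ _ hV

/-- Near a point of an affine open `W`, a basic set is cut out by two functions on `W`. -/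
theorem local_affine {W U : X.Opens} (hW : IsAffineOpen W) {f : Γ(X, U)} {V : Set ℂ} {x : Pts X}
    (hx : x ∈ Pts.basicSet U f V) (hxW : x.pt ∈ W) :
    ∃ (b c : Γ(X, W)) (m : ℕ), x.ev W hxW b ≠ 0 ∧ x.ev W hxW c / x.ev W hxW b ^ m ∈ V ∧
      ∀ (y : Pts X) (hy : y.pt ∈ W), y.ev W hy b ≠ 0 → y.ev W hy c / y.ev W hy b ^ m ∈ V →
        y ∈ Pts.basicSet U f V := by
  obtain ⟨hxU, hxV⟩ := hx
  obtain ⟨b, hbU, hxb⟩ := hW.exists_basicOpen_le ⟨x.pt, hxU⟩ hxW
  haveI := hW.isLocalization_basicOpen b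
  obtain ⟨⟨c, ⟨_, m, rfl⟩⟩, hc⟩ :=
    IsLocalization.surj (Submonoid.powers b) (X.presheaf.map (homOfLE hbU).op f)
  have key : ∀ (y : Pts X) (hyb : y.pt ∈ X.basicOpen b),
      y.ev U (hbU hyb) f = y.ev W (X.basicOpen_le b hyb) c / y.ev W (X.basicOpen_le b hyb) b ^ m := by
    intro y hyb
    have h1 := congrArg (evHom y _ hyb) hc
    simp only [map_mul, map_pow, RingHom.algebraMap_toAlgebra] at h1
    rw [eq_div_iff (pow_ne_zero m ((ev_ne_zero_iff y _ b).2 hyb)), ← ev_res y hbU hyb f,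
      ← ev_res y (X.basicOpen_le b) hyb b, ← ev_res y (X.basicOpen_le b) hyb c]
    exact h1
  refine ⟨b, c, m, (ev_ne_zero_iff x hxW b).2 hxb, (key x hxb) ▸ hxV, fun y hy hyb hyV => ?_⟩
  have hyb' : y.pt ∈ X.basicOpen b := (ev_ne_zero_iff y hy b).1 hyb
  exact ⟨hbU hyb', (key y hyb').symm ▸ hyV⟩

theorem isOpen_local {W : X.Opens} (b c : Γ(X, W)) (m : ℕ) {V : Set ℂ} (hV : IsOpen V) :
    IsOpen {y : Pts X | ∃ hy : y.pt ∈ W, y.ev W hy b ≠ 0 ∧ y.ev W hy c / y.ev W hy b ^ m ∈ V} := by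
  have hs : IsOpen (Pts.pt ⁻¹' (W : Set X) : Set (Pts X)) := Pts.isOpen_preimage_pt W
  let S : Set ↥(Pts.pt ⁻¹' (W : Set X) : Set (Pts X)) :=
    {z | z.1.ev W z.2 b ≠ 0} ∩ (fun z => z.1.ev W z.2 c / z.1.ev W z.2 b ^ m) ⁻¹' V
  have h1 : IsOpen S := ContinuousOn.isOpen_inter_preimage
    ((continuous_ev W c).continuousOn.div ((continuous_ev W b).continuousOn.pow m) fun z hz => pow_ne_zero m hz)
    (isOpen_ne_fun (continuous_ev W b) continuous_const) hV
  have h2 := hs.isOpenMap_subtype_val _ h1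
  convert! h2 using 1
  ext y
  exact ⟨fun ⟨hy, h, h'⟩ => ⟨⟨y, hy⟩, ⟨h, h'⟩, rfl⟩, fun ⟨z, hz, hzy⟩ => hzy ▸ ⟨z.2, hz.1, hz.2⟩⟩

variable {Y : Scheme.{0}} [Y.Over SC]

theorem isInducing_map (g : X ⟶ Y) [g.IsOver SC]
    (h : ∀ (U : X.Opens) (f : Γ(X, U)) (V : Set ℂ), IsOpen V → ∀ x ∈ Pts.basicSet U f V,
      ∃ T : Set (Pts Y), IsOpen T ∧ Pts.map g x ∈ T ∧ Pts.map g ⁻¹' T ⊆ Pts.basicSet U f V) :
    IsInducing (Pts.map g) := by
  refine ⟨le_antisymm (continuous_iff_le_induced.1 (Pts.continuous_map g)) ?_⟩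
  refine le_generateFrom ?_
  rintro _ ⟨U, f, V, hV, rfl⟩
  refine (@isOpen_iff_forall_mem_open _ (TopologicalSpace.induced (Pts.map g) inferInstance) _).2 fun x hx => ?_
  obtain ⟨T, hT, hxT, hTS⟩ := h U f V hV x hx
  exact ⟨_, hTS, isOpen_induced hT, hxT⟩

theorem map_injective (g : X ⟶ Y) [g.IsOver SC] [Mono g] : Function.Injective (Pts.map g) :=
  fun _ _ h => Subtype.ext ((cancel_mono g).1 (congrArg Subtype.val h))

theorem range_map_of_isOpenImmersion (g : X ⟶ Y) [g.IsOver SC] [IsOpenImmersion g] :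
    Set.range (Pts.map g) = Pts.pt ⁻¹' Set.range g := by
  refine Set.Subset.antisymm ?_ fun y hy => ?_
  · rintro _ ⟨x, rfl⟩
    exact ⟨x.pt, (Pts.pt_map g x).symm⟩
  · have hr : Set.range y.1 ⊆ Set.range g := by
      rintro _ ⟨p, rfl⟩
      rw [eq_cpt p]
      exact hy
    refine ⟨⟨IsOpenImmersion.lift g y.1 hr, ?_⟩, Subtype.ext (IsOpenImmersion.lift_fac g y.1 hr)⟩
    rw [← comp_over g (S := SC), ← Category.assoc, IsOpenImmersion.lift_fac]
    exact y.2

theorem range_map_of_isClosedImmersion (g : X ⟶ Y) [g.IsOver SC] [IsClosedImmersion g] :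
    Set.range (Pts.map g) = Pts.pt ⁻¹' Set.range g := by
  refine Set.Subset.antisymm ?_ fun y hy => ?_
  · rintro _ ⟨x, rfl⟩
    exact ⟨x.pt, (Pts.pt_map g x).symm⟩
  · haveI : Surjective (Limits.pullback.fst y.1 g) := ⟨fun p => by
      obtain ⟨a, ha⟩ := hy
      obtain ⟨t, ht, -⟩ := Scheme.Pullback.Triplet.exists_preimage
        (Scheme.Pullback.Triplet.mk' p a (show y.1 p = g a by rw [eq_cpt p]; exact ha.symm))
      exact ⟨t, ht⟩⟩
    haveI := isIso_of_isClosedImmersion_of_surjective (Limits.pullback.fst y.1 g)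
    refine ⟨⟨inv (Limits.pullback.fst y.1 g) ≫ Limits.pullback.snd y.1 g, ?_⟩, Subtype.ext ?_⟩
    · rw [← comp_over g (S := SC), Category.assoc, ← Limits.pullback.condition_assoc]
      simp [y.2]
    · change (inv (Limits.pullback.fst y.1 g) ≫ Limits.pullback.snd y.1 g) ≫ g = y.1
      rw [Category.assoc, ← Limits.pullback.condition, IsIso.inv_hom_id_assoc]

theorem isOpenEmbedding_map (g : X ⟶ Y) [g.IsOver SC] [IsOpenImmersion g] :
    IsOpenEmbedding (Pts.map g) := by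
  refine ⟨⟨isInducing_map g fun U f V hV x hx => ?_, map_injective g⟩, ?_⟩
  · have key : Pts.map g ⁻¹' Pts.basicSet (g ''ᵁ U) ((g.appIso U).inv f) V = Pts.basicSet U f V := by
      rw [Pts.preimage_basicSet]
      ext z
      have hU : g ⁻¹ᵁ g ''ᵁ U = U := g.preimage_image_eq U
      have hev : ∀ (hz : z.pt ∈ g ⁻¹ᵁ g ''ᵁ U),
          z.ev (g ⁻¹ᵁ g ''ᵁ U) hz (g.app (g ''ᵁ U) ((g.appIso U).inv f)) = z.ev U (hU.le hz) f := by
        intro hz
        rw [Scheme.Hom.appIso_inv_app_apply]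
        exact ev_res z hU.le hz f
      exact ⟨fun ⟨hz, hv⟩ => ⟨hU.le hz, hev hz ▸ hv⟩, fun ⟨hz, hv⟩ => ⟨hU.ge hz, (hev (hU.ge hz)).symm ▸ hv⟩⟩
    exact ⟨_, Pts.isOpen_basicSet _ _ hV, key.ge hx, key.le⟩
  · rw [range_map_of_isOpenImmersion]
    exact Pts.isOpen_preimage_pt g.opensRange

theorem isClosedEmbedding_map (g : X ⟶ Y) [g.IsOver SC] [IsClosedImmersion g] :
    IsClosedEmbedding (Pts.map g) := by
  refine ⟨⟨isInducing_map g fun U f V hV x hx => ?_, map_injective g⟩, ?_⟩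
  · obtain ⟨_, ⟨W, hW, rfl⟩, hxW, -⟩ :=
      Y.isBasis_affineOpens.exists_subset_of_mem_open (Set.mem_univ (g x.pt)) isOpen_univ
    replace hW : IsAffineOpen W := hW
    obtain ⟨b, c, m, hb, hbc, hsub⟩ := local_affine (hW.preimage g) hx hxW
    obtain ⟨b', rfl⟩ := g.app_surjective W hW b
    obtain ⟨c', rfl⟩ := g.app_surjective W hW c
    have hxW' : (Pts.map g x).pt ∈ W := by rw [Pts.pt_map]; exact hxW
    refine ⟨_, isOpen_local b' c' m hV, ⟨hxW', ?_, ?_⟩, ?_⟩
    · rw [Pts.ev_map]; exact hb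
    · rw [Pts.ev_map, Pts.ev_map]; exact hbc
    · rintro z ⟨hz, h1, h2⟩
      rw [Pts.ev_map] at h1
      rw [Pts.ev_map, Pts.ev_map] at h2
      exact hsub z (by rw [Pts.pt_map] at hz; exact hz) h1 h2
  · rw [range_map_of_isClosedImmersion]
    exact g.isClosedEmbedding.isClosed_range.preimage Pts.continuous_pt

/-- The open subscheme as a scheme over `ℂ`. -/
noncomputable abbrev opensOver (U : X.Opens) : (U : Scheme).Over SC := ⟨U.ι ≫ X ↘ SC⟩

theorem isEmbedding_of_generators [IsAffine X] {n : ℕ} (s : Fin n → Γ(X, ⊤))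
    (hs : Function.Surjective (MvPolynomial.eval₂Hom (strHom X) s)) :
    IsEmbedding (fun (x : Pts X) (i : Fin n) => x.evTop (s i)) ∧
      Set.range (fun (x : Pts X) (i : Fin n) => x.evTop (s i)) =
        {v | ∀ q, MvPolynomial.eval₂Hom (strHom X) s q = 0 → MvPolynomial.eval v q = 0} := by
  let Φ : Pts X → (Fin n → ℂ) := fun x i => x.evTop (s i)
  have hΦ : Continuous Φ := continuous_pi fun i => continuous_evTop (s i)
  have hev : ∀ (x : Pts X) (q : MvPolynomial (Fin n) ℂ),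
      x.evTop (MvPolynomial.eval₂Hom (strHom X) s q) = MvPolynomial.eval (Φ x) q := by
    intro x q
    have h : (evHom x ⊤ (Opens.mem_top _)).comp (MvPolynomial.eval₂Hom (strHom X) s) = MvPolynomial.eval (Φ x) :=
      MvPolynomial.ringHom_ext (fun c => by simpa [evHom_apply] using ev_strHom x c)
        (fun i => by simp [evHom_apply, Φ])
    exact RingHom.congr_fun h q
  refine ⟨⟨⟨le_antisymm (continuous_iff_le_induced.1 hΦ) (le_generateFrom ?_)⟩, fun x y h => ?_⟩, ?_⟩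
  · rintro _ ⟨U, f, V, hV, rfl⟩
    refine (@isOpen_iff_forall_mem_open _ (TopologicalSpace.induced Φ inferInstance) _).2 fun x hx => ?_
    obtain ⟨b, c, m, hb, hbc, hsub⟩ := local_affine (isAffineOpen_top X) hx (Opens.mem_top _)
    obtain ⟨qb, rfl⟩ := hs b
    obtain ⟨qc, rfl⟩ := hs c
    let S : Set (Fin n → ℂ) := {v | MvPolynomial.eval v qb ≠ 0} ∩
      (fun v => MvPolynomial.eval v qc / MvPolynomial.eval v qb ^ m) ⁻¹' V
    have hS : IsOpen S := ContinuousOn.isOpen_inter_preimage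
      ((MvPolynomial.continuous_eval qc).continuousOn.div ((MvPolynomial.continuous_eval qb).continuousOn.pow m)
        fun v hv => pow_ne_zero m hv)
      (isOpen_ne_fun (MvPolynomial.continuous_eval qb) continuous_const) hV
    refine ⟨Φ ⁻¹' S, fun z hz => ?_, isOpen_induced hS, ?_⟩
    · obtain ⟨h1, h2⟩ := hz
      refine hsub z (Opens.mem_top _) ?_ ?_
      · change z.evTop _ ≠ 0; rw [hev]; exact h1
      · change z.evTop _ / z.evTop _ ^ m ∈ V; rw [hev, hev]; exact h2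
    · refine ⟨?_, ?_⟩
      · change MvPolynomial.eval (Φ x) qb ≠ 0; rw [← hev]; exact hb
      · change MvPolynomial.eval (Φ x) qc / MvPolynomial.eval (Φ x) qb ^ m ∈ V; rw [← hev, ← hev]; exact hbc
  · refine ext_of_affine fun f => ?_
    obtain ⟨q, rfl⟩ := hs f
    rw [hev, hev]
    exact congrArg (fun v => MvPolynomial.eval v q) h
  · refine Set.Subset.antisymm ?_ fun v hv => ?_
    · rintro _ ⟨x, rfl⟩ q hq
      rw [← hev, hq]
      exact map_zero (evHom x ⊤ (Opens.mem_top _))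
    · let φ : Γ(X, ⊤) →+* ℂ := RingHom.liftOfSurjective (MvPolynomial.eval₂Hom (strHom X) s) hs
        ⟨MvPolynomial.eval v, fun q hq => hv q hq⟩
      have hφ : ∀ q, φ (MvPolynomial.eval₂Hom (strHom X) s q) = MvPolynomial.eval v q := fun q =>
        RingHom.liftOfRightInverse_comp_apply _ _ _ _ q
      obtain ⟨x, hx⟩ := exists_of_hom φ fun c => by simpa using hφ (MvPolynomial.C c)
      refine ⟨x, funext fun i => ?_⟩
      have := (hx (s i)).trans (by simpa using hφ (MvPolynomial.X i))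
      exact this

theorem isClosedEmbedding_of_generators [IsAffine X] {n : ℕ} (s : Fin n → Γ(X, ⊤))
    (hs : Function.Surjective (MvPolynomial.eval₂Hom (strHom X) s)) :
    IsClosedEmbedding (fun (x : Pts X) (i : Fin n) => x.evTop (s i)) := by
  obtain ⟨h1, h2⟩ := isEmbedding_of_generators s hs
  refine ⟨h1, ?_⟩
  rw [h2, Set.setOf_forall]
  refine isClosed_iInter fun q => ?_
  by_cases hq : MvPolynomial.eval₂Hom (strHom X) s q = 0
  · simpa [hq] using isClosed_eq (MvPolynomial.continuous_eval q) continuous_const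
  · rw [show {v : Fin n → ℂ | MvPolynomial.eval₂Hom (strHom X) s q = 0 → MvPolynomial.eval v q = 0} = Set.univ from
      Set.eq_univ_of_forall fun v h => absurd h hq]
    exact isClosed_univ

theorem exists_generators (X : Scheme.{0}) [X.Over SC] [LocallyOfFiniteType (X ↘ SC)] [IsAffine X] :
    ∃ (n : ℕ) (s : Fin n → Γ(X, ⊤)), Function.Surjective (MvPolynomial.eval₂Hom (strHom X) s) := by
  have h : RingHom.FiniteType (X ↘ SC).appTop.hom :=
    (HasRingHomProperty.iff_of_isAffine (P := @LocallyOfFiniteType)).1 inferInstance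
  have hiso : RingHom.FiniteType (Scheme.ΓSpecIso (CommRingCat.of ℂ)).inv.hom :=
    RingHom.FiniteType.of_surjective _ (ConcreteCategory.bijective_of_isIso _).2
  have h2 : RingHom.FiniteType (strHom X) := h.comp hiso
  letI : Algebra ℂ Γ(X, ⊤) := (strHom X).toAlgebra
  obtain ⟨n, π, hπ⟩ := Algebra.FiniteType.iff_quotient_mvPolynomial''.1 h2
  refine ⟨n, fun i => π (MvPolynomial.X i), fun f => ?_⟩
  obtain ⟨q, rfl⟩ := hπ f
  refine ⟨q, ?_⟩
  exact RingHom.congr_fun (MvPolynomial.ringHom_ext (f := MvPolynomial.eval₂Hom (strHom X) fun i => π (MvPolynomial.X i))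
    (g := π.toRingHom) (fun c => by simpa [RingHom.algebraMap_toAlgebra] using (π.commutes c).symm) (fun i => by simp)) q

end Groth.Agent.AnPts
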