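import Groth.Agent.AnPts.Algebra
import Mathlib.FieldTheory.PrimitiveElement
import Mathlib.FieldTheory.IntermediateField.Adjoin.Algebra
import Mathlib.RingTheory.Algebraic.Integral
import Mathlib.RingTheory.Localization.Integral
import Mathlib.RingTheory.Localization.Finiteness
import Mathlib.FieldTheory.Minpoly.IsIntegrallyClosed
import Mathlib.RingTheory.NoetherNormalization
import Mathlib.RingTheory.Polynomial.UniqueFactorization
import Mathlib.Analysis.Complex.Polynomial.Basic
import Mathlib.FieldTheory.Perfect

/-!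
# A hypersurface model of a complex affine variety
-/

set_option autoImplicit false

open Polynomial nonZeroDivisors

namespace Groth.Agent.AnPts

theorem exists_model (A : Type) [CommRing A] [IsDomain A] [Algebra ℂ A] [Algebra.FiniteType ℂ A] :
    ∃ (d : ℕ) (g : MvPolynomial (Fin d) ℂ →ₐ[ℂ] A) (θ : A) (P : (MvPolynomial (Fin d) ℂ)[X])
      (D : MvPolynomial (Fin d) ℂ),
      P.Monic ∧ Irreducible P ∧ D ≠ 0 ∧ g D ≠ 0 ∧ P.eval₂ g.toRingHom θ = 0 ∧
      (∀ a : A, ∃ q : (MvPolynomial (Fin d) ℂ)[X], g D * a = q.eval₂ g.toRingHom θ) ∧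
      (∀ (x : Fin d → ℂ) (t : ℂ), P.eval₂ (MvPolynomial.eval x) t = 0 →
        ∃ y : A →ₐ[ℂ] ℂ, (∀ r, y (g r) = MvPolynomial.eval x r) ∧ y θ = t) ∧
      (∀ (x : Fin d → ℂ) (t : ℂ), MvPolynomial.eval x D ≠ 0 → P.eval₂ (MvPolynomial.eval x) t = 0 →
        P.derivative.eval₂ (MvPolynomial.eval x) t ≠ 0) := by
  classical
  obtain ⟨d, g, hginj, hgfin⟩ := exists_finite_inj_algHom_of_fg ℂ A
  let R := MvPolynomial (Fin d) ℂ
  letI : Algebra R A := g.toRingHom.toAlgebra
  haveI : IsScalarTower ℂ R A := IsScalarTower.of_algHom g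
  haveI : Module.Finite R A := hgfin
  haveI : FaithfulSMul R A := (faithfulSMul_iff_algebraMap_injective R A).2 hginj
  haveI : Module.IsTorsionFree R A := Module.isTorsionFree_iff_faithfulSMul.2 inferInstance
  haveI : IsIntegrallyClosed R := UniqueFactorizationMonoid.instIsIntegrallyClosed
  haveI : Algebra.IsIntegral R A := Algebra.IsIntegral.of_finite R A
  let K := FractionRing R
  let L := FractionRing A
  letI : Algebra K L := FractionRing.liftAlgebra R L
  haveI : IsScalarTower R K L := FractionRing.isScalarTower_liftAlgebra R L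
  haveI : Algebra.IsAlgebraic R A := Algebra.IsIntegral.isAlgebraic
  haveI : Module.Finite K L :=
    Module.Finite.of_isLocalizedModule R⁰ (Rₚ := K) (IsScalarTower.toAlgHom R A L).toLinearMap
  haveI : CharZero R := charZero_of_injective_algebraMap (RingHom.injective (algebraMap ℂ R))
  haveI : CharZero K := charZero_of_injective_algebraMap (IsFractionRing.injective R K)
  haveI : Algebra.IsAlgebraic K L := Algebra.IsAlgebraic.of_finite K L
  haveI : Algebra.IsSeparable K L := inferInstance
  obtain ⟨θ0, hθ0⟩ := Field.exists_primitive_element K L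
  obtain ⟨⟨θ, ⟨_, r, hr, rfl⟩⟩, hsurj⟩ := IsLocalization.surj (Algebra.algebraMapSubmonoid A R⁰) θ0
  simp only at hsurj
  let θL : L := algebraMap A L θ
  have hgen : Algebra.adjoin K ({θL} : Set L) = ⊤ := by
    have h1 : IntermediateField.adjoin K ({θL} : Set L) = ⊤ := by
      rw [eq_top_iff, ← hθ0, IntermediateField.adjoin_simple_le_iff]
      have hr0 : algebraMap K L (algebraMap R K r) ≠ 0 := by
        rw [Ne, map_eq_zero, map_eq_zero_iff _ (IsFractionRing.injective R K)]
        exact nonZeroDivisors.ne_zero hr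
      have h2 : θ0 = θL * (algebraMap K L (algebraMap R K r))⁻¹ := by
        rw [eq_mul_inv_iff_mul_eq₀ hr0, ← IsScalarTower.algebraMap_apply R K L,
          IsScalarTower.algebraMap_apply R A L]
        exact hsurj
      rw [h2]
      exact mul_mem (IntermediateField.mem_adjoin_simple_self K θL)
        (inv_mem (IntermediateField.algebraMap_mem _ _))
    rw [← IntermediateField.adjoin_simple_toSubalgebra_of_isAlgebraic (Algebra.IsAlgebraic.isAlgebraic θL), h1,
      IntermediateField.top_toSubalgebra]
  have hclear : ∀ a : A, ∃ s : R, s ≠ 0 ∧ ∃ q : R[X], algebraMap R A s * a = q.eval₂ g.toRingHom θ := by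
    intro a
    have ha : algebraMap A L a ∈ (Polynomial.aeval (R := K) θL).range := by
      rw [← Algebra.adjoin_singleton_eq_range_aeval, hgen]
      exact Algebra.mem_top
    obtain ⟨q, hq⟩ := ha
    obtain ⟨b, hb⟩ := IsLocalization.integerNormalization_map_to_map R⁰ q
    refine ⟨b, nonZeroDivisors.ne_zero b.2, IsLocalization.integerNormalization R⁰ q, ?_⟩
    refine IsFractionRing.injective A L ?_
    rw [map_mul, ← IsScalarTower.algebraMap_apply R A L, IsScalarTower.algebraMap_apply R K L, Polynomial.hom_eval₂,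
      ← hq]
    change _ = Polynomial.eval₂ ((algebraMap A L).comp (algebraMap R A)) θL _
    rw [← IsScalarTower.algebraMap_eq R A L, IsScalarTower.algebraMap_eq R K L, ← Polynomial.eval₂_map, hb]
    change _ = Polynomial.aeval θL ((b : R) • q)
    rw [← IsScalarTower.algebraMap_smul K (b : R) q, map_smul, Algebra.smul_def]
    rfl
  obtain ⟨k, e, he⟩ := Module.Finite.exists_fin (R := R) (M := A)
  choose s hs q hq using fun j => hclear (e j)
  have hθi : IsIntegral R θ := Algebra.IsIntegral.isIntegral θ
  let P := minpoly R θ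
  let b : A := Polynomial.aeval θ P.derivative
  have hPd : 0 < P.natDegree := minpoly.natDegree_pos hθi
  have hb : b ≠ 0 := by
    intro h0
    have hdvd := minpoly.isIntegrallyClosed_dvd hθi h0
    have hne : P.derivative ≠ 0 := fun h => by
      have := Polynomial.natDegree_eq_zero_of_derivative_eq_zero h
      omega
    have h1 : P.natDegree ≤ _ := Polynomial.natDegree_le_of_dvd hdvd hne
    have h2 := Polynomial.natDegree_derivative_lt hPd.ne'
    omega
  have hbi : IsIntegral R b := Algebra.IsIntegral.isIntegral b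
  let c := (minpoly R b).coeff 0
  have hc : c ≠ 0 := by
    intro h0
    obtain ⟨u, hu⟩ := Polynomial.X_dvd_iff.2 h0
    have hum : u.Monic := Polynomial.Monic.of_mul_monic_left Polynomial.monic_X (hu ▸ minpoly.monic hbi)
    have h2 := minpoly.aeval R b
    rw [hu, map_mul, Polynomial.aeval_X, mul_eq_zero] at h2
    have h3 := minpoly.min R b hum (h2.resolve_left hb)
    have h4 := Polynomial.natDegree_le_natDegree h3
    rw [hu, Polynomial.natDegree_X_mul hum.ne_zero] at h4
    omega
  have hcb : ∃ b' : A, algebraMap R A c = b * b' := by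
    have h := minpoly.aeval R b
    rw [Polynomial.aeval_def, ← Polynomial.divX_mul_X_add (minpoly R b), Polynomial.eval₂_add,
      Polynomial.eval₂_mul, Polynomial.eval₂_X, Polynomial.eval₂_C] at h
    exact ⟨-Polynomial.eval₂ (algebraMap R A) b (minpoly R b).divX, by linear_combination h⟩
  refine ⟨d, g, θ, P, c * ∏ j, s j, minpoly.monic hθi, minpoly.irreducible hθi,
    mul_ne_zero hc (Finset.prod_ne_zero_iff.2 fun j _ => hs j), ?_, minpoly.aeval R θ, fun a => ?_, ?_, ?_⟩
  · exact (map_ne_zero_iff g hginj).2 (mul_ne_zero hc (Finset.prod_ne_zero_iff.2 fun j _ => hs j))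
  · have ha : a ∈ Submodule.span R (Set.range e) := he ▸ Submodule.mem_top
    induction ha using Submodule.span_induction with
    | mem x hx =>
      obtain ⟨j, rfl⟩ := hx
      refine ⟨Polynomial.C (c * ∏ i ∈ Finset.univ.erase j, s i) * q j, ?_⟩
      rw [Polynomial.eval₂_mul, Polynomial.eval₂_C, ← hq j, ← Finset.mul_prod_erase Finset.univ s (Finset.mem_univ j)]
      change g _ * e j = g _ * (g (s j) * e j)
      simp only [map_mul]
      ring
    | zero => exact ⟨0, by simp⟩
    | add x y _ _ hx hy =>
      obtain ⟨u, hu⟩ := hx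
      obtain ⟨v, hv⟩ := hy
      exact ⟨u + v, by rw [mul_add, hu, hv, Polynomial.eval₂_add]⟩
    | smul r x _ hx =>
      obtain ⟨u, hu⟩ := hx
      refine ⟨Polynomial.C r * u, ?_⟩
      rw [Polynomial.eval₂_mul, Polynomial.eval₂_C, ← hu, Algebra.smul_def]
      change g _ * (g r * x) = g r * (g _ * x)
      ring
  · intro x t ht
    letI : Algebra R ℂ := (MvPolynomial.eval x).toAlgebra
    let φ : R[X] →ₐ[ℂ] A :=
      { Polynomial.eval₂RingHom g.toRingHom θ with
        commutes' := fun z => by
          change Polynomial.eval₂ g.toRingHom θ (Polynomial.C (algebraMap ℂ R z)) = _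
          rw [Polynomial.eval₂_C]
          exact g.commutes z }
    let ψ : R[X] →ₐ[ℂ] ℂ :=
      { Polynomial.eval₂RingHom (MvPolynomial.eval x) t with
        commutes' := fun z => by
          change Polynomial.eval₂ (MvPolynomial.eval x) t (Polynomial.C (algebraMap ℂ R z)) = _
          rw [Polynomial.eval₂_C, MvPolynomial.algebraMap_eq, MvPolynomial.eval_C]
          rfl }
    have hφ : φ.toRingHom.IsIntegral := by
      refine RingHom.IsIntegral.tower_top (Polynomial.C : R →+* R[X]) φ.toRingHom ?_
      rw [show φ.toRingHom.comp Polynomial.C = algebraMap R A from RingHom.ext fun r => Polynomial.eval₂_C _ _]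
      exact Algebra.IsIntegral.isIntegral
    obtain ⟨y, hy⟩ := exists_point_lift φ hφ ψ fun u hu => by
      obtain ⟨v, hv⟩ := minpoly.isIntegrallyClosed_dvd hθi (show Polynomial.aeval θ u = 0 from hu)
      change Polynomial.eval₂ (MvPolynomial.eval x) t u = 0
      rw [hv, Polynomial.eval₂_mul, ht, zero_mul]
    refine ⟨y, fun r => ?_, ?_⟩
    · have := DFunLike.congr_fun hy (Polynomial.C r)
      simpa [φ, ψ] using this
    · have := DFunLike.congr_fun hy (Polynomial.X : R[X])
      simpa [φ, ψ] using this
  · intro x t hD ht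
    letI : Algebra R ℂ := (MvPolynomial.eval x).toAlgebra
    let φ : R[X] →ₐ[ℂ] A :=
      { Polynomial.eval₂RingHom g.toRingHom θ with
        commutes' := fun z => by
          change Polynomial.eval₂ g.toRingHom θ (Polynomial.C (algebraMap ℂ R z)) = _
          rw [Polynomial.eval₂_C]
          exact g.commutes z }
    let ψ : R[X] →ₐ[ℂ] ℂ :=
      { Polynomial.eval₂RingHom (MvPolynomial.eval x) t with
        commutes' := fun z => by
          change Polynomial.eval₂ (MvPolynomial.eval x) t (Polynomial.C (algebraMap ℂ R z)) = _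
          rw [Polynomial.eval₂_C, MvPolynomial.algebraMap_eq, MvPolynomial.eval_C]
          rfl }
    have hφ : φ.toRingHom.IsIntegral := by
      refine RingHom.IsIntegral.tower_top (Polynomial.C : R →+* R[X]) φ.toRingHom ?_
      rw [show φ.toRingHom.comp Polynomial.C = algebraMap R A from RingHom.ext fun r => Polynomial.eval₂_C _ _]
      exact Algebra.IsIntegral.isIntegral
    obtain ⟨y, hy⟩ := exists_point_lift φ hφ ψ fun u hu => by
      obtain ⟨v, hv⟩ := minpoly.isIntegrallyClosed_dvd hθi (show Polynomial.aeval θ u = 0 from hu)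
      change Polynomial.eval₂ (MvPolynomial.eval x) t u = 0
      rw [hv, Polynomial.eval₂_mul, ht, zero_mul]
    intro h0
    have h1 : y b = 0 := by
      have := DFunLike.congr_fun hy P.derivative
      exact this.trans h0
    obtain ⟨b', hb'⟩ := hcb
    have h2 : MvPolynomial.eval x c = 0 := by
      have h3 := DFunLike.congr_fun hy (Polynomial.C c)
      simp only [AlgHom.comp_apply] at h3
      rw [show φ (Polynomial.C c) = algebraMap R A c from Polynomial.eval₂_C _ _, hb', map_mul, h1, zero_mul] at h3
      rw [show ψ (Polynomial.C c) = MvPolynomial.eval x c from Polynomial.eval₂_C _ _] at h3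
      exact h3.symm
    exact hD (by rw [map_mul, h2, zero_mul])

end Groth.Agent.AnPts
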