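import Groth.Agent.AnPts.LinePoly
import Groth.Agent.AnPts.RootCont
import Mathlib.Analysis.Complex.Polynomial.Basic
import Mathlib.Analysis.Normed.Module.Connected
import Mathlib.LinearAlgebra.Complex.FiniteDimensional
import Mathlib.Analysis.Calculus.Deriv.Slope
import Mathlib.Analysis.Calculus.Deriv.Mul
import Mathlib.Analysis.Calculus.Deriv.Polynomial

/-!
# The zero locus of an irreducible polynomial, over the unramified locus, is connected
-/

set_option autoImplicit false

open Polynomial Topology Filter Set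

namespace Groth.Agent.AnPts

variable {d : ℕ}

/-- Restriction of a polynomial to the line `x + z v`. -/
noncomputable def lineP (x v : Fin d → ℂ) (Q : MvPolynomial (Fin d) ℂ) : ℂ[X] :=
  MvPolynomial.aeval (fun i => Polynomial.C (x i) + Polynomial.X * Polynomial.C (v i)) Q

theorem eval_lineP (x v : Fin d → ℂ) (Q : MvPolynomial (Fin d) ℂ) (z : ℂ) :
    (lineP x v Q).eval z = MvPolynomial.eval (x + z • v) Q := by
  have h : (Polynomial.evalRingHom z).comp (MvPolynomial.aeval
      (fun i => Polynomial.C (x i) + Polynomial.X * Polynomial.C (v i))).toRingHom =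
      MvPolynomial.eval (x + z • v) :=
    MvPolynomial.ringHom_ext (fun c => by simp) (fun i => by simp; ring)
  exact RingHom.congr_fun h Q

theorem natDegree_lineP_le (x v : Fin d → ℂ) (Q : MvPolynomial (Fin d) ℂ) :
    (lineP x v Q).natDegree ≤ Q.totalDegree := by
  rw [lineP, MvPolynomial.aeval_def, MvPolynomial.eval₂_eq]
  refine natDegree_sum_le_of_forall_le _ _ fun m hm => ?_
  refine (natDegree_C_mul_le _ _).trans ?_
  refine (natDegree_prod_le _ _).trans ?_
  refine le_trans (Finset.sum_le_sum fun i _ => ?_) (MvPolynomial.le_totalDegree hm)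
  refine natDegree_pow_le.trans ?_
  refine le_trans (Nat.mul_le_mul_left _ (?_ : _ ≤ 1)) (le_of_eq (mul_one _))
  refine (natDegree_add_le _ _).trans (max_le (by simp) ?_)
  refine natDegree_mul_le.trans ?_
  simp

theorem norm_eval_le (q : ℂ[X]) {N : ℕ} (h : q.natDegree ≤ N) (z : ℂ) :
    ‖q.eval z‖ ≤ (∑ i ∈ Finset.range (N + 1), ‖q.coeff i‖) * (1 + ‖z‖) ^ N := by
  rw [Polynomial.eval_eq_sum_range' (Nat.lt_succ_of_le h), Finset.sum_mul]
  refine (norm_sum_le _ _).trans (Finset.sum_le_sum fun i hi => ?_)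
  rw [norm_mul, norm_pow]
  refine mul_le_mul_of_nonneg_left ?_ (norm_nonneg _)
  refine (pow_le_pow_left₀ (norm_nonneg z) (le_add_of_nonneg_left zero_le_one) i).trans ?_
  exact pow_le_pow_right₀ (le_add_of_nonneg_right (norm_nonneg z)) (Nat.lt_succ_iff.1 (Finset.mem_range.1 hi))

theorem norm_coeff_prod_le {ι : Type*} (s : Finset ι) (r : ι → ℂ) {M : ℝ} (hM : ∀ i ∈ s, ‖r i‖ ≤ M) :
    ∀ k, ‖(∏ i ∈ s, (X - C (r i))).coeff k‖ ≤ (1 + M) ^ s.card := by
  classical
  induction s using Finset.induction_on with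
  | empty => intro k; simp [Polynomial.coeff_one]; split <;> simp
  | insert a s ha ih =>
    intro k
    have hM' := ih fun i hi => hM i (Finset.mem_insert_of_mem hi)
    have hr := hM a (Finset.mem_insert_self a s)
    have hM0 : 0 ≤ M := (norm_nonneg _).trans hr
    rw [Finset.prod_insert ha, Finset.card_insert_of_notMem ha, pow_succ', sub_mul]
    cases k with
    | zero =>
      simp only [coeff_sub, coeff_X_mul_zero, coeff_C_mul, zero_sub, norm_neg, norm_mul]
      exact mul_le_mul (hr.trans (by linarith)) (hM' 0) (norm_nonneg _) (by linarith)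
    | succ k =>
      simp only [coeff_sub, coeff_X_mul, coeff_C_mul]
      refine (norm_sub_le _ _).trans ?_
      rw [norm_mul, add_mul, one_mul]
      exact add_le_add (hM' k) (mul_le_mul hr (hM' _) (norm_nonneg _) hM0)

theorem differentiableAt_coeff_prod {ι : Type*} (s : Finset ι) (r : ι → ℂ → ℂ) {z : ℂ}
    (hr : ∀ i ∈ s, DifferentiableAt ℂ (r i) z) :
    ∀ k, DifferentiableAt ℂ (fun w => (∏ i ∈ s, (X - C (r i w))).coeff k) z := by
  classical
  induction s using Finset.induction_on with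
  | empty => intro k; simp only [Finset.prod_empty]; exact differentiableAt_const _
  | insert a s ha ih =>
    intro k
    have h := ih fun i hi => hr i (Finset.mem_insert_of_mem hi)
    have ha' := hr a (Finset.mem_insert_self a s)
    simp only [Finset.prod_insert ha, sub_mul]
    cases k with
    | zero => simp only [coeff_sub, coeff_X_mul_zero, coeff_C_mul]; exact (differentiableAt_const _).sub (ha'.mul (h 0))
    | succ k => simp only [coeff_sub, coeff_X_mul, coeff_C_mul]; exact (h k).sub (ha'.mul (h _))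

section Core

variable (P : Polynomial (MvPolynomial (Fin d) ℂ))

/-- The roots over `x` lying in `O`. -/
noncomputable def rootsIn (O : Set ((Fin d → ℂ) × ℂ)) (x : Fin d → ℂ) : Finset ℂ :=
  @Finset.filter _ (fun r => (x, r) ∈ O) (Classical.decPred _) (P.map (MvPolynomial.eval x)).roots.toFinset

theorem mem_rootsIn (hP : P.Monic) {O : Set ((Fin d → ℂ) × ℂ)} {x : Fin d → ℂ} {r : ℂ} :
    r ∈ rootsIn P O x ↔ P.eval₂ (MvPolynomial.eval x) r = 0 ∧ (x, r) ∈ O := by
  simp [rootsIn, (hP.map (MvPolynomial.eval x)).ne_zero, eval_map]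

variable (D : MvPolynomial (Fin d) ℂ)
  (hsimple : ∀ (x : Fin d → ℂ) (t : ℂ), MvPolynomial.eval x D ≠ 0 → P.eval₂ (MvPolynomial.eval x) t = 0 →
    P.derivative.eval₂ (MvPolynomial.eval x) t ≠ 0)

include hsimple in
theorem card_roots (hP : P.Monic) {x : Fin d → ℂ} (hx : MvPolynomial.eval x D ≠ 0) :
    (P.map (MvPolynomial.eval x)).roots.Nodup ∧
      (P.map (MvPolynomial.eval x)).roots.toFinset.card = P.natDegree := by
  have hne := (hP.map (MvPolynomial.eval x)).ne_zero
  have hnd : (P.map (MvPolynomial.eval x)).roots.Nodup := by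
    classical
    refine Multiset.nodup_iff_count_le_one.2 fun r => ?_
    rw [count_roots]
    by_contra h
    push Not at h
    obtain ⟨h1, h2⟩ := (one_lt_rootMultiplicity_iff_isRoot hne).1 h
    rw [derivative_map] at h2
    simp only [IsRoot.def, eval_map] at h1 h2
    exact hsimple x r hx h1 h2
  refine ⟨hnd, ?_⟩
  rw [Multiset.toFinset_card_of_nodup hnd, ← (IsAlgClosed.splits _).natDegree_eq_card_roots, hP.natDegree_map]

include hsimple in
theorem local_structure (hP : P.Monic) {O O' : Set ((Fin d → ℂ) × ℂ)} (hO : IsOpen O) (hO' : IsOpen O')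
    (hcov : ∀ x r, MvPolynomial.eval x D ≠ 0 → P.eval₂ (MvPolynomial.eval x) r = 0 → (x, r) ∈ O ∨ (x, r) ∈ O')
    (hdisj : ∀ x r, MvPolynomial.eval x D ≠ 0 → P.eval₂ (MvPolynomial.eval x) r = 0 → (x, r) ∈ O → (x, r) ∉ O')
    {x₀ : Fin d → ℂ} (hx₀ : MvPolynomial.eval x₀ D ≠ 0) :
    ∃ σ : ℂ → (Fin d → ℂ) → ℂ, (∀ t ∈ rootsIn P O x₀, ContinuousAt (σ t) x₀ ∧ σ t x₀ = t ∧
        ∀ᶠ x in 𝓝 x₀, P.eval₂ (MvPolynomial.eval x) (σ t x) = 0) ∧
      ∀ᶠ x in 𝓝 x₀, (rootsIn P O x).card = (rootsIn P O x₀).card ∧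
        ∏ r ∈ rootsIn P O x, (X - C r) = ∏ t ∈ rootsIn P O x₀, (X - C (σ t x)) := by
  classical
  let S := (P.map (MvPolynomial.eval x₀)).roots.toFinset
  have hS : ∀ t ∈ S, P.eval₂ (MvPolynomial.eval x₀) t = 0 := fun t ht => by
    simpa [S, (hP.map (MvPolynomial.eval x₀)).ne_zero, eval_map] using ht
  have hex : ∀ t : ℂ, ∃ σ : (Fin d → ℂ) → ℂ, t ∈ S → ContinuousAt σ x₀ ∧ σ x₀ = t ∧
      ∀ᶠ x in 𝓝 x₀, P.eval₂ (MvPolynomial.eval x) (σ x) = 0 := by
    intro t
    by_cases ht : t ∈ S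
    · obtain ⟨U, B, σ, hU, -, hxU, htB, hσ, hspec, huniq⟩ :=
        exists_simple_root_nhd (Z := Fin d → ℂ) (fun x => MvPolynomial.eval x)
          (fun a => MvPolynomial.continuous_eval a) P hP (hS t ht) (hsimple x₀ t hx₀ (hS t ht))
      exact ⟨σ, fun _ => ⟨hσ.continuousAt (hU.mem_nhds hxU), (huniq x₀ hxU t htB (hS t ht)).symm,
        Filter.eventually_of_mem (hU.mem_nhds hxU) fun x hx => (hspec x hx).2⟩⟩
    · exact ⟨fun _ => t, fun h => absurd h ht⟩
  choose σ hσ using hex
  have hsub : rootsIn P O x₀ ⊆ S := Finset.filter_subset _ _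
  refine ⟨σ, fun t ht => hσ t (hsub ht), ?_⟩
  have hD : ∀ᶠ x in 𝓝 x₀, MvPolynomial.eval x D ≠ 0 :=
    (MvPolynomial.continuous_eval D).continuousAt.eventually_ne hx₀
  have hroot : ∀ᶠ x in 𝓝 x₀, ∀ t ∈ S, P.eval₂ (MvPolynomial.eval x) (σ t x) = 0 :=
    (Filter.eventually_all_finset S).2 fun t ht => (hσ t ht).2.2
  have hinj : ∀ᶠ x in 𝓝 x₀, ∀ t ∈ S, ∀ u ∈ S, σ t x = σ u x → t = u := by
    refine (Filter.eventually_all_finset S).2 fun t ht => (Filter.eventually_all_finset S).2 fun u hu => ?_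
    by_cases htu : t = u
    · exact Eventually.of_forall fun _ _ => htu
    · have h : ∀ᶠ x in 𝓝 x₀, σ t x - σ u x ≠ 0 :=
        ((hσ t ht).1.sub (hσ u hu).1).eventually_ne (by
          simp [(hσ t ht).2.1, (hσ u hu).2.1, sub_ne_zero, htu])
      filter_upwards [h] with x hx h'
      exact absurd (sub_eq_zero.2 h') hx
  have hside : ∀ᶠ x in 𝓝 x₀, ∀ t ∈ S, ((x, σ t x) ∈ O ↔ (x₀, t) ∈ O) := by
    refine (Filter.eventually_all_finset S).2 fun t ht => ?_
    have hc : ContinuousAt (fun x => (x, σ t x)) x₀ := continuousAt_id.prodMk (hσ t ht).1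
    by_cases hin : (x₀, t) ∈ O
    · filter_upwards [hc.eventually_mem (hO.mem_nhds (by rwa [(hσ t ht).2.1]))] with x hx
      exact ⟨fun _ => hin, fun _ => hx⟩
    · have hin' : (x₀, t) ∈ O' := (hcov x₀ t hx₀ (hS t ht)).resolve_left hin
      filter_upwards [hc.eventually_mem (hO'.mem_nhds (by rwa [(hσ t ht).2.1])), hD, (hσ t ht).2.2]
        with x hx hxD hxr
      exact ⟨fun h => absurd hx (hdisj x _ hxD hxr h), fun h => absurd h hin⟩
  filter_upwards [hD, hroot, hinj, hside] with x hxD hxr hxi hxs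
  have hall : (P.map (MvPolynomial.eval x)).roots.toFinset = S.image (fun t => σ t x) := by
    refine (Finset.eq_of_subset_of_card_le ?_ ?_).symm
    · intro r hr
      obtain ⟨t, ht, rfl⟩ := Finset.mem_image.1 hr
      simp [(hP.map (MvPolynomial.eval x)).ne_zero, eval_map, hxr t ht]
    · rw [(card_roots P D hsimple hP hxD).2, Finset.card_image_of_injOn (fun t ht u hu => hxi t ht u hu),
        (card_roots P D hsimple hP hx₀).2]
  have heq : rootsIn P O x = (rootsIn P O x₀).image (fun t => σ t x) := by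
    ext r
    simp only [rootsIn, hall, Finset.mem_filter, Finset.mem_image]
    constructor
    · rintro ⟨⟨t, ht, rfl⟩, hr⟩
      exact ⟨t, ⟨ht, (hxs t ht).1 hr⟩, rfl⟩
    · rintro ⟨t, ⟨ht, ht'⟩, rfl⟩
      exact ⟨⟨t, ht, rfl⟩, (hxs t ht).2 ht'⟩
  have hio : Set.InjOn (fun t => σ t x) (rootsIn P O x₀) := fun t ht u hu => hxi t (hsub ht) u (hsub hu)
  exact ⟨by rw [heq, Finset.card_image_of_injOn hio], by rw [heq, Finset.prod_image hio]⟩

theorem differentiableAt_root {φ : ℂ → MvPolynomial (Fin d) ℂ →+* ℂ} (hφ : ∀ a, Differentiable ℂ fun z => φ z a)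
    {τ : ℂ → ℂ} {z₀ : ℂ} (hτ : ContinuousAt τ z₀) (hroot : ∀ᶠ z in 𝓝 z₀, P.eval₂ (φ z) (τ z) = 0)
    (hd : P.derivative.eval₂ (φ z₀) (τ z₀) ≠ 0) : DifferentiableAt ℂ τ z₀ := by
  let g : ℂ → ℂ := fun z => P.eval₂ (φ z) (τ z₀)
  let E : ℂ → ℂ := fun z => divDiff (φ z) P (τ z) (τ z₀)
  have hg : Differentiable ℂ g := by
    simp only [g, Polynomial.eval₂_eq_sum_range]
    exact Differentiable.fun_sum fun i _ => (hφ _).mul (differentiable_const _)
  have hE : ContinuousAt E z₀ := by
    simp only [E, divDiff]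
    refine tendsto_finsetSum _ fun i _ => ?_
    exact ((hφ _).continuous.continuousAt).tendsto.mul
      (tendsto_finsetSum _ fun j _ => ((hτ.tendsto.pow j).mul tendsto_const_nhds))
  have hE0 : E z₀ ≠ 0 := by simp only [E, divDiff_self]; exact hd
  have hg0 : g z₀ = 0 := hroot.self_of_nhds
  refine HasDerivAt.differentiableAt (f' := -deriv g z₀ / E z₀) (hasDerivAt_iff_tendsto_slope.2 ?_)
  have h1 : Tendsto (fun z => -slope g z₀ z / E z) (𝓝[≠] z₀) (𝓝 (-deriv g z₀ / E z₀)) :=
    ((hasDerivAt_iff_tendsto_slope.1 (hg z₀).hasDerivAt).neg).div (hE.tendsto.mono_left nhdsWithin_le_nhds) hE0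
  refine h1.congr' ?_
  filter_upwards [(hroot.filter_mono nhdsWithin_le_nhds),
    ((hE.eventually_ne hE0).filter_mono nhdsWithin_le_nhds)] with z hz hEz
  have h2 := divDiff_mul (φ z) P (τ z) (τ z₀)
  rw [hz, zero_sub] at h2
  change E z * (τ z - τ z₀) = -g z at h2
  rw [slope_def_field, slope_def_field, hg0, sub_zero, div_eq_iff hEz, div_mul_eq_mul_div,
    mul_comm (τ z - τ z₀) (E z), h2, neg_div]

theorem isConnected_nonvanishing (hD : D ≠ 0) : IsConnected {x : Fin d → ℂ | MvPolynomial.eval x D ≠ 0} := by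
  obtain ⟨a, ha⟩ : ∃ a, MvPolynomial.eval a D ≠ 0 := by
    by_contra h
    push Not at h
    exact hD (MvPolynomial.funext fun x => by rw [h x, map_zero])
  refine ⟨⟨a, ha⟩, isPreconnected_of_forall a fun b hb => ?_⟩
  let S : Set ℂ := {z | MvPolynomial.eval (a + z • (b - a)) D = 0}
  have hS : S.Finite := by
    have hne : lineP a (b - a) D ≠ 0 := fun h => ha (by
      have := eval_lineP a (b - a) D 0
      rw [h, Polynomial.eval_zero, zero_smul, add_zero] at this
      exact this.symm)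
    refine (Polynomial.finite_setOf_isRoot hne).subset fun z hz => ?_
    rw [Set.mem_setOf_eq, IsRoot.def, eval_lineP]
    exact hz
  refine ⟨(fun z : ℂ => a + z • (b - a)) '' Sᶜ, ?_, ⟨0, by simpa [S] using ha, by simp⟩,
    ⟨1, by simpa [S] using hb, by simp⟩,
    ((hS.countable.isConnected_compl_of_one_lt_rank (by rw [Complex.rank_real_complex]; norm_num)).image _
      (continuous_const.add (continuous_id.smul continuous_const)).continuousOn).isPreconnected⟩
  rintro _ ⟨z, hz, rfl⟩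
  exact hz

set_option maxHeartbeats 1000000 in
include hsimple in
theorem exists_factor (hP : P.Monic) (hD : D ≠ 0) {O O' : Set ((Fin d → ℂ) × ℂ)} (hO : IsOpen O) (hO' : IsOpen O')
    (hcov : ∀ x r, MvPolynomial.eval x D ≠ 0 → P.eval₂ (MvPolynomial.eval x) r = 0 → (x, r) ∈ O ∨ (x, r) ∈ O')
    (hdisj : ∀ x r, MvPolynomial.eval x D ≠ 0 → P.eval₂ (MvPolynomial.eval x) r = 0 → (x, r) ∈ O → (x, r) ∉ O') :
    ∃ (e : ℕ) (Q : Polynomial (MvPolynomial (Fin d) ℂ)), Q.natDegree = e ∧ Q.Monic ∧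
      ∀ x, MvPolynomial.eval x D ≠ 0 → (rootsIn P O x).card = e ∧
        Q.map (MvPolynomial.eval x) = ∏ r ∈ rootsIn P O x, (X - C r) := by
  classical
  let B : Set (Fin d → ℂ) := {x | MvPolynomial.eval x D ≠ 0}
  have hB : IsOpen B := isOpen_ne_fun (MvPolynomial.continuous_eval D) continuous_const
  obtain ⟨x₁, hx₁⟩ := (isConnected_nonvanishing D hD).nonempty
  let e := (rootsIn P O x₁).card
  have hcard : ∀ x ∈ B, (rootsIn P O x).card = e := by
    intro x hx
    refine (isConnected_nonvanishing D hD).isPreconnected.constant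
      (f := fun x => (rootsIn P O x).card) ?_ hx hx₁
    intro y hy
    obtain ⟨σ, -, h⟩ := local_structure P D hsimple hP hO hO' hcov hdisj hy
    refine ContinuousAt.continuousWithinAt ?_
    rw [ContinuousAt, nhds_discrete ℕ, tendsto_pure]
    filter_upwards [h] with z hz using hz.1
  let q : (Fin d → ℂ) → ℂ[X] := fun x => ∏ r ∈ rootsIn P O x, (X - C r)
  let N0 := (Finset.range P.natDegree).sup fun i => (P.coeff i).totalDegree
  have hpoly : ∀ k, ∃ R : MvPolynomial (Fin d) ℂ, ∀ x ∈ B, (q x).coeff k = MvPolynomial.eval x R := by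
    intro k
    refine exists_mvPolynomial_of_lines (N0 * e) hB hx₁ (fun x => (q x).coeff k) fun x v => ?_
    by_cases hl : lineP x v D = 0
    · refine ⟨0, by simp, fun z hz => absurd ?_ hz⟩
      rw [← eval_lineP, hl, Polynomial.eval_zero]
    let S : Set ℂ := {z | MvPolynomial.eval (x + z • v) D = 0}
    have hS : S.Finite := (Polynomial.finite_setOf_isRoot hl).subset fun z hz => by
      rw [Set.mem_setOf_eq, IsRoot.def, eval_lineP]
      exact hz
    let f : ℂ → ℂ := fun z => (q (x + z • v)).coeff k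
    have hf : DifferentiableOn ℂ f Sᶜ := by
      intro z₀ hz₀
      refine DifferentiableAt.differentiableWithinAt ?_
      obtain ⟨σ, hσ, h⟩ := local_structure P D hsimple hP hO hO' hcov hdisj (x₀ := x + z₀ • v) hz₀
      have hl : ContinuousAt (fun z : ℂ => x + z • v) z₀ :=
        (continuous_const.add (continuous_id.smul continuous_const)).continuousAt
      have hd : ∀ t ∈ rootsIn P O (x + z₀ • v), DifferentiableAt ℂ (fun z => σ t (x + z • v)) z₀ := by
        intro t ht
        obtain ⟨hc, ht0, hr⟩ := hσ t ht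
        refine differentiableAt_root P (φ := fun z => MvPolynomial.eval (x + z • v)) (fun a => ?_)
          (ContinuousAt.comp (g := σ t) hc hl) (hl.eventually hr) ?_
        · simp only [← eval_lineP]
          exact (lineP x v a).differentiable
        · rw [ht0]
          exact hsimple _ t hz₀ ((mem_rootsIn P hP).1 ht).1
      refine (differentiableAt_coeff_prod _ _ hd k).congr_of_eventuallyEq ?_
      filter_upwards [hl.eventually h] with z hz
      simp only [f, q, hz.2]
    let Cst : ℝ := 2 + ∑ i ∈ Finset.range P.natDegree, ∑ j ∈ Finset.range (N0 + 1), ‖(lineP x v (P.coeff i)).coeff j‖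
    have hb : ∀ z ∉ S, ‖f z‖ ≤ Cst ^ e * (1 + ‖z‖) ^ (N0 * e) := by
      intro z hz
      have hM : ∀ r ∈ rootsIn P O (x + z • v), ‖r‖ ≤
          1 + ∑ i ∈ Finset.range P.natDegree, ‖MvPolynomial.eval (x + z • v) (P.coeff i)‖ := by
        intro r hr
        have h := norm_root_le _ (hP.map (MvPolynomial.eval (x + z • v))) (c := r)
          (by rw [eval_map]; exact ((mem_rootsIn P hP).1 hr).1)
        rw [hP.natDegree_map] at h
        simpa using h
      have h1 := norm_coeff_prod_le _ _ hM k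
      rw [hcard _ hz] at h1
      refine h1.trans ?_
      rw [pow_mul, ← mul_pow]
      refine pow_le_pow_left₀ (by positivity) ?_ e
      have hone : (1 : ℝ) ≤ (1 + ‖z‖) ^ N0 := one_le_pow₀ (by linarith [norm_nonneg z])
      have hsum : ∑ i ∈ Finset.range P.natDegree, ‖MvPolynomial.eval (x + z • v) (P.coeff i)‖ ≤
          (∑ i ∈ Finset.range P.natDegree, ∑ j ∈ Finset.range (N0 + 1), ‖(lineP x v (P.coeff i)).coeff j‖) *
            (1 + ‖z‖) ^ N0 := by
        rw [Finset.sum_mul]
        refine Finset.sum_le_sum fun i hi => ?_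
        rw [← eval_lineP]
        exact norm_eval_le _ ((natDegree_lineP_le _ _ _).trans (Finset.le_sup (f := fun i => (P.coeff i).totalDegree) hi)) z
      simp only [Cst, add_mul]
      nlinarith
    obtain ⟨g, hg, hgf, hgb⟩ := exists_entire_extension hS hf hb
    obtain ⟨Q, hQ, hQg⟩ := eq_polynomial_of_growth _ g hg _ hgb
    exact ⟨Q, hQ, fun z hz => by rw [← hQg, hgf z hz]⟩
  choose R hR using hpoly
  let Q : Polynomial (MvPolynomial (Fin d) ℂ) := X ^ e + ∑ k ∈ Finset.range e, C (R k) * X ^ k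
  have hsdeg : (∑ k ∈ Finset.range e, C (R k) * X ^ k : Polynomial (MvPolynomial (Fin d) ℂ)).degree < (e : WithBot ℕ) := by
    refine lt_of_le_of_lt (degree_sum_le _ _) ((Finset.sup_lt_iff (WithBot.bot_lt_coe e)).2 fun k hk => ?_)
    exact lt_of_le_of_lt (degree_C_mul_X_pow_le k _) (WithBot.coe_lt_coe.2 (Finset.mem_range.1 hk))
  have hQm : Q.Monic := monic_X_pow_add hsdeg
  have hQd : Q.natDegree = e := by
    refine natDegree_eq_of_degree_eq_some ?_
    rw [degree_add_eq_left_of_degree_lt (by rwa [degree_X_pow]), degree_X_pow]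
  refine ⟨e, Q, hQd, hQm, fun x hx => ⟨hcard x hx, ?_⟩⟩
  have hqm : (q x).Monic := monic_prod_of_monic _ _ fun r _ => monic_X_sub_C r
  have hqd : (q x).natDegree = e := by
    rw [natDegree_prod_of_monic _ _ fun r _ => monic_X_sub_C r]
    simp only [natDegree_X_sub_C, Finset.sum_const, smul_eq_mul, mul_one]
    exact hcard x hx
  change _ = q x
  conv_rhs => rw [hqm.as_sum, hqd]
  simp only [Q, Polynomial.map_add, Polynomial.map_pow, map_X, Polynomial.map_sum, Polynomial.map_mul, map_C]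
  congr 1
  exact Finset.sum_congr rfl fun k _ => by rw [hR k x hx]

include hsimple in
theorem isPreconnected_of_irreducible (hP : P.Monic) (hirr : Irreducible P) (hD : D ≠ 0) :
    IsPreconnected {p : (Fin d → ℂ) × ℂ |
      MvPolynomial.eval p.1 D ≠ 0 ∧ P.eval₂ (MvPolynomial.eval p.1) p.2 = 0} := by
  classical
  intro O O' hO hO' hcov hne hne'
  by_contra hint
  have hcov' : ∀ x r, MvPolynomial.eval x D ≠ 0 → P.eval₂ (MvPolynomial.eval x) r = 0 → (x, r) ∈ O ∨ (x, r) ∈ O' :=
    fun x r h1 h2 => hcov (show (x, r) ∈ _ from ⟨h1, h2⟩)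
  have hdisj : ∀ x r, MvPolynomial.eval x D ≠ 0 → P.eval₂ (MvPolynomial.eval x) r = 0 → (x, r) ∈ O → (x, r) ∉ O' :=
    fun x r h1 h2 h3 h4 => hint ⟨(x, r), ⟨h1, h2⟩, h3, h4⟩
  obtain ⟨e, Q, hQd, hQm, hQ⟩ := exists_factor P D hsimple hP hD hO hO' hcov' hdisj
  obtain ⟨e', Q', hQd', hQm', hQ'⟩ := exists_factor P D hsimple hP hD hO' hO
    (fun x r h1 h2 => (hcov' x r h1 h2).symm) (fun x r h1 h2 h3 h4 => hdisj x r h1 h2 h4 h3)
  have hprod : P = Q * Q' := by
    have h : ∀ x, MvPolynomial.eval x D ≠ 0 → P.map (MvPolynomial.eval x) = (Q * Q').map (MvPolynomial.eval x) := by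
      intro x hx
      rw [Polynomial.map_mul, (hQ x hx).2, (hQ' x hx).2]
      have hcomp : rootsIn P O' x =
          (P.map (MvPolynomial.eval x)).roots.toFinset.filter (fun r => ¬ (x, r) ∈ O) := by
        ext r
        rw [mem_rootsIn P hP]
        simp only [Finset.mem_filter, Multiset.mem_toFinset, mem_roots (hP.map _).ne_zero, IsRoot.def, eval_map]
        exact ⟨fun ⟨a, b⟩ => ⟨a, fun c => hdisj x r hx a c b⟩, fun ⟨a, b⟩ => ⟨a, (hcov' x r hx a).resolve_left b⟩⟩
      rw [hcomp, rootsIn, Finset.prod_filter_mul_prod_filter_not, Finset.prod_eq_multiset_prod,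
        Multiset.toFinset_val, (card_roots P D hsimple hP hx).1.dedup]
      exact (IsAlgClosed.splits (P.map (MvPolynomial.eval x))).eq_prod_roots_of_monic (hP.map _)
    refine Polynomial.ext fun k => ?_
    have h2 : (P.coeff k - (Q * Q').coeff k) * D = 0 := MvPolynomial.funext fun x => by
      rw [map_zero, map_mul, map_sub]
      rcases eq_or_ne (MvPolynomial.eval x D) 0 with h0 | h0
      · rw [h0, mul_zero]
      · rw [← Polynomial.coeff_map, ← Polynomial.coeff_map, h x h0, sub_self, zero_mul]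
    exact sub_eq_zero.1 ((mul_eq_zero.1 h2).resolve_right hD)
  rcases hirr.isUnit_or_isUnit hprod with hu | hu
  · obtain ⟨⟨x, r⟩, ⟨hx, hr⟩, hxO⟩ := hne
    have h0 : e = 0 := by rw [← hQd, Polynomial.natDegree_eq_zero_of_isUnit hu]
    have := Finset.card_eq_zero.1 ((hQ x hx).1.trans h0)
    exact Finset.notMem_empty r (this ▸ (mem_rootsIn P hP).2 ⟨hr, hxO⟩)
  · obtain ⟨⟨x, r⟩, ⟨hx, hr⟩, hxO⟩ := hne'
    have h0 : e' = 0 := by rw [← hQd', Polynomial.natDegree_eq_zero_of_isUnit hu]
    have := Finset.card_eq_zero.1 ((hQ' x hx).1.trans h0)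
    exact Finset.notMem_empty r (this ▸ (mem_rootsIn P hP).2 ⟨hr, hxO⟩)

end Core

end Groth.Agent.AnPts
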