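import Groth.Agent.AnPts.Closure
import Groth.Agent.AnPts.Rational
import Groth.Agent.AnPts.Monodromy
import Groth.Agent.AnPts.Model
import Mathlib.AlgebraicGeometry.Properties
import Mathlib.AlgebraicGeometry.Morphisms.ClosedImmersion

/-!
# Connectedness of the space of complex points
-/

set_option autoImplicit false

open AlgebraicGeometry CategoryTheory TopologicalSpace Topology
open An

namespace Groth.Agent.AnPts

variable {X : Scheme.{0}} [X.Over SC]

theorem isPreconnected_univ_of_integral [IsAffine X] [IsIntegral X] [LocallyOfFiniteType (X ↘ SC)] :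
    IsPreconnected (Set.univ : Set (Pts X)) := by
  obtain ⟨N, s, hs⟩ := exists_generators X
  letI : Algebra ℂ Γ(X, ⊤) := (strHom X).toAlgebra
  haveI : Algebra.FiniteType ℂ Γ(X, ⊤) :=
    Algebra.FiniteType.of_surjective (MvPolynomial.aeval s : MvPolynomial (Fin N) ℂ →ₐ[ℂ] Γ(X, ⊤)) hs
  haveI : IsDomain Γ(X, ⊤) := inferInstance
  obtain ⟨d, g, θ, P, D, hPm, hPirr, hD, hgD, hPθ, hgen, hlift, hsimple⟩ := exists_model Γ(X, ⊤)
  let V : Set ((Fin d → ℂ) × ℂ) :=
    {p | MvPolynomial.eval p.1 D ≠ 0 ∧ P.eval₂ (MvPolynomial.eval p.1) p.2 = 0}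
  have hV : IsPreconnected V := isPreconnected_of_irreducible P D hsimple hPm hPirr hD
  choose q hq using fun i => hgen (s i)
  let Φ : Pts X → (Fin N → ℂ) := fun z i => z.evTop (s i)
  let ψ : (Fin d → ℂ) × ℂ → (Fin N → ℂ) := fun p i =>
    (q i).eval₂ (MvPolynomial.eval p.1) p.2 / MvPolynomial.eval p.1 D
  let U : Set (Pts X) := {z | z.evTop (g D) ≠ 0}
  have key : ∀ (z : Pts X) (x : Fin d → ℂ) (t : ℂ), (∀ r, z.evTop (g r) = MvPolynomial.eval x r) →
      z.evTop θ = t → MvPolynomial.eval x D ≠ 0 → Φ z = ψ (x, t) := by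
    intro z x t hz ht hx
    funext i
    have h := congrArg (evHom z ⊤ (Opens.mem_top _)) (hq i)
    rw [map_mul, Polynomial.hom_eval₂] at h
    have he : (evHom z ⊤ (Opens.mem_top _)).comp g.toRingHom = MvPolynomial.eval x := RingHom.ext hz
    rw [he] at h
    change z.evTop (g D) * z.evTop (s i) = (q i).eval₂ (MvPolynomial.eval x) (z.evTop θ) at h
    rw [hz, ht] at h
    change z.evTop (s i) = _ / _
    rw [eq_div_iff hx, mul_comm, h]
  have himg : Φ '' U = ψ '' V := by
    refine Set.Subset.antisymm ?_ ?_
    · rintro _ ⟨z, hz, rfl⟩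
      let x : Fin d → ℂ := fun j => z.evTop (g (MvPolynomial.X j))
      have hx : ∀ r, z.evTop (g r) = MvPolynomial.eval x r := fun r => by
        have h : (evHom z ⊤ (Opens.mem_top _)).comp g.toRingHom = MvPolynomial.eval x :=
          MvPolynomial.ringHom_ext (fun c => by
            have h1 : g (MvPolynomial.C c) = strHom X c := g.commutes c
            simp only [RingHom.comp_apply, MvPolynomial.eval_C]
            change z.evTop (g (MvPolynomial.C c)) = c
            rw [h1]
            exact ev_strHom z c) (fun j => by simp [x, evHom_apply])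
        exact RingHom.congr_fun h r
      have hzx : MvPolynomial.eval x D ≠ 0 := by rw [← hx]; exact hz
      refine ⟨(x, z.evTop θ), ⟨hzx, ?_⟩, (key z x _ hx rfl hzx).symm⟩
      have h := congrArg (evHom z ⊤ (Opens.mem_top _)) hPθ
      rw [Polynomial.hom_eval₂, map_zero,
        show (evHom z ⊤ (Opens.mem_top _)).comp g.toRingHom = MvPolynomial.eval x from RingHom.ext hx] at h
      exact h
    · rintro _ ⟨⟨x, t⟩, ⟨hx, ht⟩, rfl⟩
      obtain ⟨y, hy, hyθ⟩ := hlift x t ht
      obtain ⟨z, hz⟩ := exists_of_hom (X := X) y.toRingHom y.commutes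
      have hz' : ∀ r, z.evTop (g r) = MvPolynomial.eval x r := fun r => (hz _).trans (hy r)
      exact ⟨z, show z.evTop (g D) ≠ 0 by rw [hz']; exact hx, key z x t hz' ((hz θ).trans hyθ) hx⟩
  have hψ : ContinuousOn ψ V := continuousOn_pi.2 fun i => by
    refine ContinuousOn.div ?_ ((MvPolynomial.continuous_eval D).comp continuous_fst).continuousOn fun p hp => hp.1
    simp only [Polynomial.eval₂_eq_sum_range]
    exact (continuous_finsetSum _ fun l _ =>
      ((MvPolynomial.continuous_eval _).comp continuous_fst).mul (continuous_snd.pow l)).continuousOn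
  have hU : IsPreconnected U := by
    rw [← (isEmbedding_of_generators s hs).1.isInducing.isPreconnected_image]
    change IsPreconnected (Φ '' U)
    rw [himg]
    exact hV.image ψ hψ
  have hUeq : U = Pts.pt ⁻¹' (X.basicOpen (g D) : Set X) := Set.ext fun z => ev_ne_zero_iff z (Opens.mem_top _) _
  have hne : (X.basicOpen (g D) : Set X).Nonempty := by
    rw [Set.nonempty_iff_ne_empty]
    intro h
    exact hgD ((basicOpen_eq_bot_iff (g D)).1 (Opens.ext h))
  have hcl : closure U = Set.univ := by
    rw [hUeq, ← preimage_closure (isLocallyConstructible_compl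
        (isLocallyConstructible_of_isClosed (X.basicOpen (g D)).isOpen.isClosed_compl) |> (fun h => by
      rwa [compl_compl] at h)),
      ((X.basicOpen (g D)).isOpen.dense hne).closure_eq, Set.preimage_univ]
  exact hcl ▸ hU.closure

theorem isPreconnected_preimage_closure [LocallyOfFiniteType (X ↘ SC)] (p : X) :
    IsPreconnected (Pts.pt ⁻¹' closure {p} : Set (Pts X)) := by
  obtain ⟨_, ⟨(U : X.Opens), hU, rfl⟩, hpU, -⟩ :=
    X.isBasis_affineOpens.exists_subset_of_mem_open (Set.mem_univ p) isOpen_univ
  haveI : IsAffine (U : Scheme) := hU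
  let A := Γ((U : Scheme), ⊤)
  let P : PrimeSpectrum A := (U : Scheme).toSpecΓ ⟨p, hpU⟩
  let i : Spec (CommRingCat.of (A ⧸ P.asIdeal)) ⟶ (U : Scheme) :=
    Spec.map (CommRingCat.ofHom (Ideal.Quotient.mk P.asIdeal)) ≫ (U : Scheme).isoSpec.inv
  haveI : IsClosedImmersion (Spec.map (CommRingCat.ofHom (Ideal.Quotient.mk P.asIdeal))) :=
    IsClosedImmersion.spec_of_surjective _ Ideal.Quotient.mk_surjective
  haveI : IsClosedImmersion i := inferInstance
  let j := i ≫ U.ι
  letI : (Spec (CommRingCat.of (A ⧸ P.asIdeal))).Over SC := ⟨j ≫ X ↘ SC⟩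
  haveI : j.IsOver SC := ⟨rfl⟩
  haveI : LocallyOfFiniteType (Spec (CommRingCat.of (A ⧸ P.asIdeal)) ↘ SC) :=
    inferInstanceAs (LocallyOfFiniteType ((i ≫ U.ι) ≫ X ↘ SC))
  haveI : IsIntegral (Spec (CommRingCat.of (A ⧸ P.asIdeal))) := inferInstance
  have hri : Set.range i = closure {(⟨p, hpU⟩ : (U : Scheme))} := by
    change Set.range (Spec.map (CommRingCat.ofHom (Ideal.Quotient.mk P.asIdeal)) ≫ (U : Scheme).isoSpec.inv) = _
    rw [Scheme.Hom.comp_base, TopCat.coe_comp, Set.range_comp]
    have h1 : Set.range (Spec.map (CommRingCat.ofHom (Ideal.Quotient.mk P.asIdeal))) = closure {P} := by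
      rw [PrimeSpectrum.closure_singleton]
      exact (range_comap_of_surjective _ _ Ideal.Quotient.mk_surjective).trans (by rw [Ideal.mk_ker])
    rw [h1]
    let e : (U : Scheme) ≃ₜ Spec A := (U : Scheme).isoSpec.hom.homeomorph
    have he : ∀ y, (U : Scheme).isoSpec.inv y = e.symm y := fun y => e.injective (by
      rw [e.apply_symm_apply]
      change (U : Scheme).isoSpec.hom ((U : Scheme).isoSpec.inv y) = y
      rw [← Scheme.Hom.comp_apply, Iso.inv_hom_id]
      rfl)
    rw [show ⇑(U : Scheme).isoSpec.inv = ⇑e.symm from funext he]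
    refine (e.symm.image_closure ({P} : Set (Spec A))).trans ?_
    have hP : e.symm P = (⟨p, hpU⟩ : (U : Scheme)) := e.injective (by
      rw [e.apply_symm_apply]
      rfl)
    exact congrArg closure ((Set.image_singleton (f := ⇑e.symm) (a := P)).trans (congrArg singleton hP))
  have hr : Set.range j = (U : Set X) ∩ closure {p} := by
    rw [Scheme.Hom.comp_base, TopCat.coe_comp, Set.range_comp, hri]
    refine (congrArg (Set.image U.ι) (U.ι.isOpenEmbedding.isInducing.closure_eq_preimage_closure_image _)).trans ?_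
    rw [Set.image_preimage_eq_inter_range, Scheme.Opens.range_ι, Set.inter_comm]
    exact congrArg (fun S => (U : Set X) ∩ closure S) Set.image_singleton
  have hS : IsLocallyConstructible ((U : Set X) ∩ closure {p}) := by
    rw [← compl_compl (U : Set X)]
    exact (isLocallyConstructible_compl (isLocallyConstructible_of_isClosed U.isOpen.isClosed_compl)).inter
      (isLocallyConstructible_of_isClosed isClosed_closure)
  have h := (isPreconnected_univ_of_integral.image (Pts.map j) (Pts.continuous_map j).continuousOn)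
  rw [Set.image_univ, range_map_eq, hr] at h
  have h2 := h.closure
  rw [← preimage_closure hS] at h2
  convert! h2 using 2
  refine Set.Subset.antisymm (closure_minimal (Set.singleton_subset_iff.2 ?_) isClosed_closure)
    (closure_minimal Set.inter_subset_right isClosed_closure)
  exact subset_closure ⟨hpU, subset_closure rfl⟩

theorem connectedComponentsMap_bijective [LocallyOfFiniteType (X ↘ SC)] :
    Function.Bijective (Pts.continuous_pt (X := X)).connectedComponentsMap := by
  classical
  have hne : ∀ p : X, ∃ x : Pts X, x.pt ∈ closure ({p} : Set X) := fun p =>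
    exists_pts_of_isLocallyClosed ⟨p, subset_closure rfl⟩ isClosed_closure.isLocallyClosed
  choose w hw using hne
  let κ : X → ConnectedComponents (Pts X) := fun p => ConnectedComponents.mk (w p)
  have hκ : ∀ (p : X) (x : Pts X), x.pt ∈ closure ({p} : Set X) → ConnectedComponents.mk x = κ p := fun p x hx =>
    ConnectedComponents.coe_eq_coe'.2 ((isPreconnected_preimage_closure p).subset_connectedComponent (hw p) hx)
  have hspec : ∀ p q : X, p ⤳ q → κ p = κ q := fun p q h =>
    (hκ p (w q) (h.closure_subset (hw q))).symm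
  haveI : IsLocallyNoetherian X := LocallyOfFiniteType.isLocallyNoetherian (X ↘ SC)
  have hclopen : ∀ T : Set (ConnectedComponents (Pts X)), IsOpen (κ ⁻¹' T) := by
    intro T
    refine isOpen_iff_forall_mem_open.2 fun p hp => ?_
    obtain ⟨_, ⟨(U : X.Opens), hU, rfl⟩, hpU, -⟩ :=
      X.isBasis_affineOpens.exists_subset_of_mem_open (Set.mem_univ p) isOpen_univ
    haveI : IsAffine (U : Scheme) := hU
    haveI : IsNoetherian (U : Scheme) := {}
    have hcl : IsClosed (U.ι ⁻¹' (κ ⁻¹' T)ᶜ) := by
      have heq : U.ι ⁻¹' (κ ⁻¹' T)ᶜ =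
          ⋃ C ∈ {C | C ∈ irreducibleComponents (U : Scheme) ∧ C ⊆ U.ι ⁻¹' (κ ⁻¹' T)ᶜ}, C := by
        refine Set.Subset.antisymm (fun u hu => ?_) (Set.iUnion₂_subset fun C hC => hC.2)
        refine Set.mem_biUnion (x := irreducibleComponent u)
          ⟨irreducibleComponent_mem_irreducibleComponents u, fun v hv => ?_⟩ mem_irreducibleComponent
        have hg := (isIrreducible_irreducibleComponent (x := u)).isGenericPoint_genericPoint_closure
        rw [(isClosed_irreducibleComponent (x := u)).closure_eq] at hg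
        have h1 := hspec _ _ ((hg.specializes mem_irreducibleComponent).map U.ι.continuous)
        have h2 := hspec _ _ ((hg.specializes hv).map U.ι.continuous)
        intro hvT
        exact hu (show κ (U.ι u) ∈ T by rw [← h1, h2]; exact hvT)
      rw [heq]
      exact (NoetherianSpace.finite_irreducibleComponents.subset fun C hC => hC.1).isClosed_biUnion
        fun C hC => isClosed_of_mem_irreducibleComponents C hC.1
    refine ⟨U.ι '' (U.ι ⁻¹' (κ ⁻¹' T)), Set.image_preimage_subset _ _, U.ι.isOpenEmbedding.isOpenMap _ ?_,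
      ⟨⟨p, hpU⟩, hp, rfl⟩⟩
    rw [Set.preimage_compl, isClosed_compl_iff] at hcl
    exact hcl
  refine ⟨fun a b => ?_, fun c => ?_⟩
  · obtain ⟨x, rfl⟩ := ConnectedComponents.surjective_coe a
    obtain ⟨y, rfl⟩ := ConnectedComponents.surjective_coe b
    intro h
    have h' : connectedComponent x.pt = connectedComponent y.pt := ConnectedComponents.coe_eq_coe.1 h
    let S : Set X := κ ⁻¹' {κ x.pt}
    have hS : IsClopen S := ⟨isOpen_compl_iff.1 (hclopen {κ x.pt}ᶜ), hclopen _⟩
    have hy : y.pt ∈ S := hS.connectedComponent_subset (show x.pt ∈ S from rfl) (h' ▸ mem_connectedComponent)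
    rw [hκ x.pt x (subset_closure rfl), hκ y.pt y (subset_closure rfl)]
    exact hy.symm
  · obtain ⟨p, rfl⟩ := ConnectedComponents.surjective_coe c
    refine ⟨ConnectedComponents.mk (w p), ?_⟩
    change ConnectedComponents.mk (w p).pt = ConnectedComponents.mk p
    exact ConnectedComponents.coe_eq_coe'.2
      (isPreconnected_singleton.closure.subset_connectedComponent (subset_closure rfl) (hw p))

theorem connectedSpace_iff [LocallyOfFiniteType (X ↘ SC)] : ConnectedSpace X ↔ ConnectedSpace (Pts X) := by
  have hb := connectedComponentsMap_bijective (X := X)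
  rw [connectedSpace_iff_connectedComponent, connectedSpace_iff_connectedComponent]
  constructor
  · rintro ⟨p, hp⟩
    obtain ⟨x, -⟩ := exists_pts_of_isLocallyClosed (Z := (Set.univ : Set X)) ⟨p, trivial⟩ isOpen_univ.isLocallyClosed
    refine ⟨x, Set.eq_univ_of_forall fun y => ?_⟩
    refine ConnectedComponents.coe_eq_coe'.1 (hb.1 ?_)
    change ConnectedComponents.mk y.pt = ConnectedComponents.mk x.pt
    exact ConnectedComponents.coe_eq_coe.2
      ((connectedComponent_eq (hp.ge (Set.mem_univ y.pt))).symm.trans (connectedComponent_eq (hp.ge (Set.mem_univ x.pt))))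
  · rintro ⟨x, hx⟩
    refine ⟨x.pt, Set.eq_univ_of_forall fun q => ?_⟩
    obtain ⟨c, hc⟩ := hb.2 (ConnectedComponents.mk q)
    obtain ⟨y, rfl⟩ := ConnectedComponents.surjective_coe c
    refine ConnectedComponents.coe_eq_coe'.1 ?_
    rw [← hc]
    change ConnectedComponents.mk y.pt = ConnectedComponents.mk x.pt
    exact congrArg (Pts.continuous_pt (X := X)).connectedComponentsMap
      (ConnectedComponents.coe_eq_coe'.2 (hx.ge (Set.mem_univ y)))

end Groth.Agent.AnPts
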