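import Mathlib.Analysis.Complex.RemovableSingularity
import Mathlib.Analysis.Complex.Liouville
import Mathlib.LinearAlgebra.Lagrange
import Mathlib.Algebra.MvPolynomial.Funext
import Mathlib.Topology.Algebra.Module.Cardinality

/-!
# Entire functions of polynomial growth, and functions that are polynomial on lines
-/

set_option autoImplicit false

open Polynomial Topology Filter Set

namespace Groth.Agent.AnPts

theorem eq_polynomial_of_growth (N : ℕ) : ∀ f : ℂ → ℂ, Differentiable ℂ f →
    ∀ C : ℝ, (∀ z, ‖f z‖ ≤ C * (1 + ‖z‖) ^ N) → ∃ q : ℂ[X], q.natDegree ≤ N ∧ ∀ z, f z = q.eval z := by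
  induction N with
  | zero =>
    intro f hf C hC
    have hb : Bornology.IsBounded (range f) := isBounded_iff_forall_norm_le.2
      ⟨C, by rintro _ ⟨z, rfl⟩; simpa using hC z⟩
    exact ⟨Polynomial.C (f 0), by simp, fun z => by simpa using hf.apply_eq_apply_of_bounded hb z 0⟩
  | succ N ih =>
    intro f hf C hC
    let g := dslope f 0
    have hg : Differentiable ℂ g := differentiableOn_univ.1
      ((Complex.differentiableOn_dslope univ_mem).2 hf.differentiableOn)
    obtain ⟨M, hM⟩ := (isCompact_closedBall (0 : ℂ) 1).exists_bound_of_continuousOn hg.continuous.continuousOn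
    have hC0 : 0 ≤ C := by simpa using (norm_nonneg (f 0)).trans (hC 0)
    have hgb : ∀ z, ‖g z‖ ≤ (|M| + 2 * (C + ‖f 0‖)) * (1 + ‖z‖) ^ N := by
      intro z
      have h1 : (1 : ℝ) ≤ (1 + ‖z‖) ^ N := one_le_pow₀ (by linarith [norm_nonneg z])
      have hnn : (0 : ℝ) ≤ 2 * (C + ‖f 0‖) := by positivity
      by_cases hz : ‖z‖ ≤ 1
      · have h2 := hM z (by simpa using hz)
        nlinarith [le_abs_self M, abs_nonneg M]
      · push Not at hz
        have hz0 : z ≠ 0 := fun h => by simp [h] at hz; linarith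
        have hgz : g z = z⁻¹ * (f z - f 0) := by
          simp [g, dslope_of_ne _ hz0, slope_def_field]
          ring
        have h3 : ‖f z - f 0‖ ≤ (C + ‖f 0‖) * (1 + ‖z‖) ^ (N + 1) := by
          refine (norm_sub_le _ _).trans ?_
          have h4 : (1 : ℝ) ≤ (1 + ‖z‖) ^ (N + 1) := one_le_pow₀ (by linarith [norm_nonneg z])
          nlinarith [hC z, norm_nonneg (f 0)]
        have h5 : ‖g z‖ ≤ 2 * (C + ‖f 0‖) * (1 + ‖z‖) ^ N := by
          rw [hgz, norm_mul, norm_inv]
          refine (mul_le_mul_of_nonneg_left h3 (by positivity)).trans ?_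
          rw [inv_mul_le_iff₀ (by linarith)]
          have h6 : 1 + ‖z‖ ≤ 2 * ‖z‖ := by linarith
          calc (C + ‖f 0‖) * (1 + ‖z‖) ^ (N + 1) = (C + ‖f 0‖) * (1 + ‖z‖) ^ N * (1 + ‖z‖) := by ring
            _ ≤ (C + ‖f 0‖) * (1 + ‖z‖) ^ N * (2 * ‖z‖) := mul_le_mul_of_nonneg_left h6 (by positivity)
            _ = _ := by ring
        nlinarith [abs_nonneg M]
    obtain ⟨q, hq, hqg⟩ := ih g hg _ hgb
    refine ⟨Polynomial.C (f 0) + Polynomial.X * q, ?_, fun z => ?_⟩
    · refine (natDegree_add_le _ _).trans (max_le (by simp) ?_)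
      refine natDegree_mul_le.trans ?_
      simp only [natDegree_X]
      omega
    · have h := sub_smul_dslope f 0 z
      simp only [sub_zero, smul_eq_mul] at h
      simp only [eval_add, eval_C, eval_mul, eval_X]
      rw [← hqg, h, add_sub_cancel]

theorem exists_entire_extension {f : ℂ → ℂ} {S : Set ℂ} (hS : S.Finite) (hf : DifferentiableOn ℂ f Sᶜ)
    {C : ℝ} {N : ℕ} (hb : ∀ z ∉ S, ‖f z‖ ≤ C * (1 + ‖z‖) ^ N) :
    ∃ g : ℂ → ℂ, Differentiable ℂ g ∧ (∀ z ∉ S, g z = f z) ∧ ∀ z, ‖g z‖ ≤ C * (1 + ‖z‖) ^ N := by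
  let g : ℂ → ℂ := fun z => limUnder (𝓝[≠] z) f
  have hgf : ∀ z ∉ S, g z = f z := fun z hz =>
    (((hf.differentiableAt (hS.isClosed.isOpen_compl.mem_nhds hz)).continuousAt.tendsto).mono_left
      nhdsWithin_le_nhds).limUnder_eq
  have hgd : Differentiable ℂ g := by
    intro c
    let O : Set ℂ := (S \ {c})ᶜ
    have hO : IsOpen O := (hS.sdiff).isClosed.isOpen_compl
    have hcO : c ∈ O := fun h => h.2 rfl
    have hsub : ∀ z ∈ O \ {c}, z ∉ S := fun z hz h => hz.1 ⟨h, hz.2⟩
    obtain ⟨r, hr, hrO⟩ := Metric.isOpen_iff.1 hO c hcO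
    have hsub' : ∀ z ∈ Metric.ball c r \ {c}, z ∉ S := fun z hz => hsub z ⟨hrO hz.1, hz.2⟩
    have hupd := Complex.differentiableOn_update_limUnder_of_bddAbove (Metric.ball_mem_nhds c hr)
      (hf.mono hsub') ?_
    · refine (hupd.congr fun z hz => ?_).differentiableAt (Metric.ball_mem_nhds c hr)
      rcases eq_or_ne z c with rfl | hzc
      · simp [g]
      · rw [Function.update_of_ne hzc, hgf z (hsub' z ⟨hz, hzc⟩)]
    · refine ⟨|C| * (1 + (‖c‖ + r)) ^ N, ?_⟩
      rintro _ ⟨z, hz, rfl⟩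
      refine (hb z (hsub' z hz)).trans ?_
      have h1 : ‖z‖ ≤ ‖c‖ + r := by
        have h2 := mem_ball_iff_norm.1 hz.1
        have h3 := norm_le_norm_add_norm_sub' z c
        linarith
      exact mul_le_mul (le_abs_self C) (pow_le_pow_left₀ (by positivity) (by linarith) N) (by positivity) (abs_nonneg C)
  refine ⟨g, hgd, hgf, fun z => ?_⟩
  have hdense : Dense Sᶜ := hS.countable.dense_compl ℝ
  exact hdense.induction (P := fun z => ‖g z‖ ≤ C * (1 + ‖z‖) ^ N)
    (fun w hw => by rw [hgf w hw]; exact hb w hw)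
    (isClosed_le hgd.continuous.norm (continuous_const.mul ((continuous_const.add continuous_norm).pow N))) z

theorem exists_mvPolynomial_box (N : ℕ) : ∀ (d : ℕ) (U : Fin d → Set ℂ), (∀ i, (U i).Infinite) →
    ∀ s : (Fin d → ℂ) → ℂ,
      (∀ i x, (∀ j, x j ∈ U j) →
        ∃ q : ℂ[X], q.natDegree ≤ N ∧ ∀ t ∈ U i, s (Function.update x i t) = q.eval t) →
      ∃ Q : MvPolynomial (Fin d) ℂ, ∀ x, (∀ j, x j ∈ U j) → s x = MvPolynomial.eval x Q := by
  intro d
  induction d with
  | zero =>
    intro U hU s hs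
    exact ⟨MvPolynomial.C (s ![]), fun x _ => by simp [Subsingleton.elim x ![]]⟩
  | succ d ih =>
    intro U hU s hs
    classical
    let a : Fin (N + 1) → ℂ := fun k => ((hU 0).natEmbedding _ k : ℂ)
    have ha : ∀ k, a k ∈ U 0 := fun k => ((hU 0).natEmbedding _ k).2
    have hainj : Function.Injective a := fun k l h =>
      Fin.val_injective (((hU 0).natEmbedding _).injective (Subtype.ext h))
    have hQ : ∀ k, ∃ Q : MvPolynomial (Fin d) ℂ, ∀ x, (∀ j, x j ∈ U j.succ) →
        s (Fin.cons (a k) x) = MvPolynomial.eval x Q := by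
      intro k
      refine ih (fun j => U j.succ) (fun j => hU _) (fun x => s (Fin.cons (a k) x)) fun i x hx => ?_
      obtain ⟨q, hq, hqs⟩ := hs i.succ (Fin.cons (a k) x) (fun j => by
        induction j using Fin.cases with
        | zero => simpa using ha k
        | succ j => simpa using hx j)
      exact ⟨q, hq, fun t ht => by rw [Fin.cons_update]; exact hqs t ht⟩
    choose Q hQ using hQ
    refine ⟨∑ k, Polynomial.aeval (MvPolynomial.X 0 : MvPolynomial (Fin (d + 1)) ℂ)
      (Lagrange.basis Finset.univ a k) * MvPolynomial.rename Fin.succ (Q k), fun x hx => ?_⟩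
    obtain ⟨q, hq, hqs⟩ := hs 0 x hx
    have hx0 : s x = q.eval (x 0) := by
      have h := hqs (x 0) (hx 0)
      rwa [Function.update_eq_self] at h
    have hqa : ∀ k, q.eval (a k) = MvPolynomial.eval (Fin.tail x) (Q k) := fun k => by
      rw [← hqs (a k) (ha k), ← hQ k (Fin.tail x) (fun j => hx j.succ)]
      congr 1
      rw [← Fin.cons_self_tail x, Fin.update_cons_zero, Fin.tail_cons]
    have hint := Lagrange.eq_interpolate (s := Finset.univ) (v := a) (f := q) hainj.injOn (by
      refine lt_of_le_of_lt degree_le_natDegree ?_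
      simp only [Finset.card_univ, Fintype.card_fin]
      exact_mod_cast Nat.lt_succ_of_le hq)
    rw [hx0, hint, Lagrange.interpolate_apply, eval_finsetSum, map_sum]
    refine Finset.sum_congr rfl fun k _ => ?_
    rw [map_mul, MvPolynomial.eval_rename, eval_mul, eval_C, hqa k, mul_comm]
    congr 1
    have : ∀ p : ℂ[X], MvPolynomial.eval x (Polynomial.aeval (MvPolynomial.X 0 : MvPolynomial (Fin (d + 1)) ℂ) p) = p.eval (x 0) := by
      intro p
      induction p using Polynomial.induction_on' with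
      | add p q hp hq => simp [hp, hq]
      | monomial n c => simp [Polynomial.aeval_monomial, MvPolynomial.algebraMap_eq]
    rw [this]

theorem exists_mvPolynomial_of_lines {d : ℕ} (N : ℕ) {B : Set (Fin d → ℂ)} (hB : IsOpen B) {x₀ : Fin d → ℂ}
    (hx₀ : x₀ ∈ B) (s : (Fin d → ℂ) → ℂ)
    (hline : ∀ x v : Fin d → ℂ, ∃ q : ℂ[X], q.natDegree ≤ N ∧ ∀ z : ℂ, x + z • v ∈ B → s (x + z • v) = q.eval z) :
    ∃ Q : MvPolynomial (Fin d) ℂ, ∀ x ∈ B, s x = MvPolynomial.eval x Q := by
  classical
  obtain ⟨r, hr, hrB⟩ := Metric.isOpen_iff.1 hB x₀ hx₀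
  obtain ⟨Q, hQ⟩ := exists_mvPolynomial_box N d (fun i => Metric.ball (x₀ i) r)
    (fun i => infinite_of_mem_nhds (x₀ i) (Metric.ball_mem_nhds _ hr)) s (fun i x hx => by
      obtain ⟨q, hq, hqs⟩ := hline (Function.update x i 0) (Pi.single i 1)
      refine ⟨q, hq, fun t ht => ?_⟩
      have e : Function.update x i 0 + t • Pi.single i (1 : ℂ) = Function.update x i t := by
        ext j
        rcases eq_or_ne j i with rfl | hj <;> simp_all
      rw [← e]
      refine hqs t ?_
      rw [e]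
      refine hrB ((dist_pi_lt_iff hr).2 fun j => ?_)
      rcases eq_or_ne j i with rfl | hj
      · simpa using ht
      · simpa [hj] using hx j)
  refine ⟨Q, fun b hb => ?_⟩
  obtain ⟨q, -, hqs⟩ := hline x₀ (b - x₀)
  let p : ℂ[X] := MvPolynomial.aeval (fun i => Polynomial.C (x₀ i) + Polynomial.X * Polynomial.C ((b - x₀) i)) Q
  have hp : ∀ z, p.eval z = MvPolynomial.eval (x₀ + z • (b - x₀)) Q := fun z => by
    have h : (Polynomial.evalRingHom z).comp (MvPolynomial.aeval
        (fun i => Polynomial.C (x₀ i) + Polynomial.X * Polynomial.C ((b - x₀) i))).toRingHom =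
        MvPolynomial.eval (x₀ + z • (b - x₀)) :=
      MvPolynomial.ringHom_ext (fun c => by simp) (fun i => by simp)
    exact RingHom.congr_fun h Q
  have hev : ∀ᶠ z in 𝓝 (0 : ℂ), x₀ + z • (b - x₀) ∈ Metric.ball x₀ r := by
    refine ((continuous_const.add (continuous_id.smul continuous_const)).tendsto' (0 : ℂ) x₀ (by simp)).eventually ?_
    exact Metric.ball_mem_nhds _ hr
  have hpq : q = p := by
    refine Polynomial.eq_of_infinite_eval_eq _ _ ((infinite_of_mem_nhds (0 : ℂ) hev).mono fun z hz => ?_)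
    simp only [Set.mem_setOf_eq] at hz ⊢
    rw [← hqs z (hrB hz), hQ _ ((dist_pi_lt_iff hr).1 hz), hp]
  have h1 := hqs 1 (by simpa using hb)
  rw [hpq, hp] at h1
  simpa using h1

end Groth.Agent.AnPts
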