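import Groth.Agent.AnPts.Separated
import Groth.Agent.AnPts.Rational
import Groth.Agent.Chow.Base

/-!
# Complex points of projective space over a base: the projection is proper
-/

set_option autoImplicit false

open AlgebraicGeometry CategoryTheory Limits TopologicalSpace Topology
open An
open MvPolynomial (eval₂Hom X)

namespace Groth.Agent.AnPts

variable {Y : Scheme.{0}} [Y.Over SC]

/-- `P^n_Y` over `ℂ`. -/
noncomputable abbrev projOver (Y : Scheme.{0}) [Y.Over SC] (n : ℕ) : (CohB1.ProjSpaceOver n Y).Over SC :=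
  ⟨CohB1.ProjSpaceOver.toBase n Y ≫ Y ↘ SC⟩

theorem subsingleton_pts_SC : Subsingleton (Pts SC) := ⟨fun a b => Subtype.ext (by
  have ha : a.1 ≫ 𝟙 SC = 𝟙 SC := a.2
  have hb : b.1 ≫ 𝟙 SC = 𝟙 SC := b.2
  exact (Category.comp_id a.1).symm.trans (ha.trans (hb.symm.trans (Category.comp_id b.1))))⟩

theorem ringHom_ulift_ext {B : Type} [CommRing B] (f g : ULift.{0} ℤ →+* B) : f = g := by
  refine RingHom.ext fun a => ?_
  have h := RingHom.ext_int (f.comp (ULift.ringEquiv (R := ℤ)).symm.toRingHom)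
    (g.comp (ULift.ringEquiv (R := ℤ)).symm.toRingHom)
  exact RingHom.congr_fun h a.down

/-- The only ring map out of `ℤ`. -/
def intHom (B : Type) [CommRing B] : ULift.{0} ℤ →+* B :=
  (Int.castRingHom B).comp (ULift.ringEquiv (R := ℤ)).toRingHom

variable (Y) in
/-- The coordinates in the chart `k`. -/
noncomputable def chartCoord (n : ℕ) (k j : Fin (n + 1)) :
    Γ(pullback (𝔸(Fin (n + 1); SC) ↘ SC) (Y ↘ SC), ⊤) :=
  if j = k then 1 else (pullback.fst (𝔸(Fin (n + 1); SC) ↘ SC) (Y ↘ SC)).appTop (AffineSpace.coord SC j)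

variable (Y) in
theorem chartCoord_unit (n : ℕ) (k : Fin (n + 1)) :
    IsUnit (eval₂Hom (intHom Γ(pullback (𝔸(Fin (n + 1); SC) ↘ SC) (Y ↘ SC), ⊤)) (chartCoord Y n k) (X k)) := by
  simp [chartCoord]

variable (Y) in
/-- The chart map. -/
noncomputable def chartMap (n : ℕ) (k : Fin (n + 1)) :
    pullback (𝔸(Fin (n + 1); SC) ↘ SC) (Y ↘ SC) ⟶ CohB1.ProjSpaceOver n Y :=
  Chow.mkPt Y (Chow.pt (eval₂Hom (intHom _) (chartCoord Y n k)) (X k) (Chow.X_mem k) one_pos
    (chartCoord_unit Y n k)) (pullback.snd _ _)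

theorem exists_rep (n : ℕ) [instP : (CohB1.ProjSpaceOver n Y).Over SC]
    (hP : (CohB1.ProjSpaceOver n Y) ↘ SC = CohB1.ProjSpaceOver.toBase n Y ≫ Y ↘ SC)
    (z : Pts (CohB1.ProjSpaceOver n Y)) :
    ∃ (k : Fin (n + 1)) (v : Fin (n + 1) → Γ(SC, ⊤)) (h : IsUnit (eval₂Hom (intHom Γ(SC, ⊤)) v (X k))),
      v k = 1 ∧ (∀ j, ‖(Scheme.ΓSpecIso (CommRingCat.of ℂ)).hom (v j)‖ ≤ 1) ∧
        z.1 ≫ Chow.toZ Y n = Chow.pt (eval₂Hom (intHom Γ(SC, ⊤)) v) (X k) (Chow.X_mem k) one_pos h := by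
  let a : SC ⟶ Chow.Pr n (ULift.{0} ℤ) := z.1 ≫ Chow.toZ Y n
  obtain ⟨i, hi⟩ : ∃ i : Fin (n + 1),
      a cpt ∈ Proj.basicOpen (CohB1.polyGrading n (ULift.{0} ℤ)) (X i) := by
    have htop : (⨆ i : Fin (n + 1),
        Proj.basicOpen (CohB1.polyGrading n (ULift.{0} ℤ)) (X i)) = ⊤ :=
      Proj.iSup_basicOpen_eq_top' (CohB1.polyGrading n (ULift.{0} ℤ))
        (fun i : Fin (n + 1) => (X i : MvPolynomial (Fin (n + 1)) (ULift.{0} ℤ)))
        (fun i => ⟨1, Chow.X_mem i⟩) (by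
        refine top_le_iff.1 fun p hpt => ?_
        clear hpt
        induction p using MvPolynomial.induction_on with
        | C r =>
          exact Subalgebra.algebraMap_mem _ (⟨MvPolynomial.C r, Chow.C_mem r⟩ : CohB1.polyGrading n (ULift.{0} ℤ) 0)
        | add p q hp hq => exact add_mem hp hq
        | mul_X p j hp => exact mul_mem hp (Algebra.subset_adjoin ⟨j, rfl⟩))
    exact Opens.mem_iSup.1 (htop.ge (Opens.mem_top (a cpt)))
  have hr : Set.range a ⊆ Set.range (Chow.chart n (ULift.{0} ℤ) i) := by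
    rintro _ ⟨p, rfl⟩
    rw [eq_cpt p]
    change a cpt ∈ (Chow.chart n (ULift.{0} ℤ) i).opensRange
    rw [Proj.opensRange_awayι]
    exact hi
  let a' := IsOpenImmersion.lift (Chow.chart n (ULift.{0} ℤ) i) a hr
  have ha : a = a' ≫ Chow.chart n (ULift.{0} ℤ) i := (IsOpenImmersion.lift_fac _ _ hr).symm
  rw [Chow.comp_chart_eq_pt] at ha
  let e := (Scheme.ΓSpecIso (CommRingCat.of ℂ))
  let v : Fin (n + 1) → Γ(SC, ⊤) := fun j => Chow.coords i a' (X j)
  have hev : Chow.coords i a' = eval₂Hom (intHom Γ(SC, ⊤)) v :=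
    MvPolynomial.ringHom_ext (fun r => by
      rw [MvPolynomial.eval₂Hom_C]
      exact RingHom.congr_fun (ringHom_ulift_ext ((Chow.coords i a').comp MvPolynomial.C) _) r)
      (fun j => by simp [v])
  have hvi : v i = 1 := Chow.coords_self i a'
  obtain ⟨k, -, hk⟩ := Finset.univ.exists_max_image (fun j => ‖e.hom (v j)‖) ⟨i, Finset.mem_univ i⟩
  have hk1 : 1 ≤ ‖e.hom (v k)‖ := by
    have := hk i (Finset.mem_univ i)
    rw [hvi, map_one, norm_one] at this
    exact this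
  have hne : e.hom (v k) ≠ 0 := norm_pos_iff.1 (lt_of_lt_of_le one_pos hk1)
  let c : Γ(SC, ⊤) := e.inv (e.hom (v k))⁻¹
  have hc : IsUnit c := (isUnit_iff_ne_zero.2 (inv_ne_zero hne)).map e.inv.hom
  have hec : e.hom c = (e.hom (v k))⁻¹ := congr($(e.inv_hom_id) (e.hom (v k))⁻¹)
  let w : Fin (n + 1) → Γ(SC, ⊤) := fun j => c * v j
  have hinj : Function.Injective e.hom := (ConcreteCategory.bijective_of_isIso e.hom).1
  have hwk : w k = 1 := hinj (by rw [map_mul, hec, map_one, inv_mul_cancel₀ hne])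
  have hu1 : IsUnit (eval₂Hom (intHom Γ(SC, ⊤)) v (X i)) := by simp [hvi]
  have hu2 : IsUnit (eval₂Hom (intHom Γ(SC, ⊤)) w (X i)) := by simp [w, hvi, hc]
  have hu3 : IsUnit (eval₂Hom (intHom Γ(SC, ⊤)) w (X k)) := by simp [hwk]
  refine ⟨k, w, hu3, hwk, fun j => ?_, ?_⟩
  · rw [map_mul, hec, norm_mul, norm_inv]
    exact (inv_mul_le_one₀ (lt_of_lt_of_le one_pos hk1)).2 (hk j (Finset.mem_univ j))
  · change a = _
    rw [ha, ← Chow.pt_eq_of_isUnit _ (Chow.X_mem i) one_pos (Chow.X_mem k) one_pos hu2 hu3,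
      Chow.pt_scale _ v c hc (Chow.X_mem i) one_pos hu1]
    exact Chow.pt_congr hev rfl rfl _ _ _ _ _ _

set_option maxHeartbeats 1000000 in
theorem isProperMap_toBase [LocallyOfFiniteType (Y ↘ SC)] (n : ℕ)
    [instP : (CohB1.ProjSpaceOver n Y).Over SC] [(CohB1.ProjSpaceOver.toBase n Y).IsOver SC] :
    IsProperMap (Pts.map (CohB1.ProjSpaceOver.toBase n Y)) := by
  have hP : (CohB1.ProjSpaceOver n Y) ↘ SC = CohB1.ProjSpaceOver.toBase n Y ≫ Y ↘ SC :=
    (comp_over (CohB1.ProjSpaceOver.toBase n Y) SC).symm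
  haveI : (𝔸(Fin (n + 1); SC) ↘ SC).IsOver SC := ⟨Category.comp_id _⟩
  haveI : (Y ↘ SC).IsOver SC := ⟨Category.comp_id _⟩
  haveI := subsingleton_pts_SC
  let T := pullback (𝔸(Fin (n + 1); SC) ↘ SC) (Y ↘ SC)
  haveI : ∀ k, (chartMap Y n k).IsOver SC := fun k => ⟨by
    rw [hP, chartMap, Chow.mkPt_toBase_assoc]
    exact comp_over _ SC⟩
  obtain ⟨hemb, hrange⟩ := isEmbedding_of_generators (AffineSpace.coord SC) (bijective_coord (n + 1)).2
  let Φ : Pts 𝔸(Fin (n + 1); SC) → (Fin (n + 1) → ℂ) := fun x i => x.evTop (AffineSpace.coord SC i)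
  have hΦ : IsHomeomorph Φ := (isHomeomorph_iff_isEmbedding_surjective).2 ⟨hemb, fun v => by
    rw [← Set.mem_range, hrange]
    intro q hq
    rw [(bijective_coord (n + 1)).1 (hq.trans (map_zero _).symm), map_zero]⟩
  let e1 := (isHomeomorph_pairMap (𝔸(Fin (n + 1); SC) ↘ SC) (Y ↘ SC)).homeomorph
  let Θ : (Fin (n + 1) → ℂ) × Pts Y → Pts T := fun p =>
    e1.symm ⟨(hΦ.homeomorph.symm p.1, p.2), Subsingleton.elim _ _⟩
  have hΘ : Continuous Θ := e1.symm.continuous.comp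
    (((hΦ.homeomorph.symm.continuous.comp continuous_fst).prodMk continuous_snd).subtype_mk _)
  let K : Set (Fin (n + 1) → ℂ) := Set.pi Set.univ fun _ => Metric.closedBall (0 : ℂ) 1
  haveI : CompactSpace K :=
    isCompact_iff_compactSpace.1 (isCompact_univ_pi fun _ => isCompact_closedBall (0 : ℂ) 1)
  let q : Fin (n + 1) × K × Pts Y → Pts (CohB1.ProjSpaceOver n Y) :=
    fun p => Pts.map (chartMap Y n p.1) (Θ (p.2.1.1, p.2.2))
  have hq : Continuous q := continuous_prod_of_discrete_left.2 fun k =>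
    (Pts.continuous_map (chartMap Y n k)).comp
      (hΘ.comp ((continuous_subtype_val.comp continuous_fst).prodMk continuous_snd))
  have hΘ1 : ∀ p, Pts.map (pullback.fst _ _) (Θ p) = hΦ.homeomorph.symm p.1 := fun p =>
    congrArg (fun q => q.1.1) (e1.apply_symm_apply ⟨(hΦ.homeomorph.symm p.1, p.2), Subsingleton.elim _ _⟩)
  have hΘ2 : ∀ p, Pts.map (pullback.snd _ _) (Θ p) = p.2 := fun p =>
    congrArg (fun q => q.1.2) (e1.apply_symm_apply ⟨(hΦ.homeomorph.symm p.1, p.2), Subsingleton.elim _ _⟩)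
  refine isProperMap_of_comp_of_surj hq (Pts.continuous_map _) ?_ ?_
  · convert! ((isProperMap_snd_of_compactSpace : IsProperMap (Prod.snd : K × Pts Y → Pts Y)).comp
      (isProperMap_snd_of_compactSpace : IsProperMap (Prod.snd : Fin (n + 1) × K × Pts Y → K × Pts Y)))
      using 1
    funext p
    refine Subtype.ext ?_
    change ((Θ (p.2.1.1, p.2.2)).1 ≫ chartMap Y n p.1) ≫ CohB1.ProjSpaceOver.toBase n Y = p.2.2.1
    rw [Category.assoc, chartMap, Chow.mkPt_toBase]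
    exact congrArg Subtype.val (hΘ2 (p.2.1.1, p.2.2))
  · intro z
    obtain ⟨k, v, hu, hvk, hv, hz⟩ := exists_rep n hP z
    let u : Fin (n + 1) → ℂ := fun j => (Scheme.ΓSpecIso (CommRingCat.of ℂ)).hom (v j)
    have hu' : u ∈ K := fun j _ => mem_closedBall_zero_iff.2 (hv j)
    let y : Pts Y := Pts.map (CohB1.ProjSpaceOver.toBase n Y) z
    refine ⟨(k, ⟨u, hu'⟩, y), Subtype.ext (Chow.pso_hom_ext Y _ _ ?_ ?_)⟩
    · change ((Θ (u, y)).1 ≫ chartMap Y n k) ≫ Chow.toZ Y n = _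
      rw [hz, Category.assoc, chartMap, Chow.mkPt_toZ, Chow.comp_pt]
      refine Chow.pt_congr ?_ rfl rfl _ _ _ _ _ _
      refine MvPolynomial.ringHom_ext (fun r => ?_) fun j => ?_
      · simp only [RingHom.comp_apply, MvPolynomial.eval₂Hom_C]
        exact RingHom.congr_fun (ringHom_ulift_ext ((Θ (u, y)).1.appTop.hom.comp (intHom _)) (intHom _)) r
      · simp only [RingHom.comp_apply, MvPolynomial.eval₂Hom_X']
        change (Θ (u, y)).1.appTop (chartCoord Y n k j) = v j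
        rw [chartCoord]
        split
        · next h => rw [map_one, h, hvk]
        · refine (ConcreteCategory.bijective_of_isIso (Scheme.ΓSpecIso (CommRingCat.of ℂ)).hom).1 ?_
          change _ = u j
          have h1 := congrArg (fun w : Pts 𝔸(Fin (n + 1); SC) => w.evTop (AffineSpace.coord SC j)) (hΘ1 (u, y))
          have h2 : (hΦ.homeomorph.symm u).evTop (AffineSpace.coord SC j) = u j :=
            congrFun (hΦ.homeomorph.apply_symm_apply u) j
          rw [← h2, ← h1, evTop_map]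
          unfold Pts.evTop Pts.ev
          rw [Scheme.Hom.appTop, Scheme.Hom.app_eq_appLE]
          rfl
    · change ((Θ (u, y)).1 ≫ chartMap Y n k) ≫ CohB1.ProjSpaceOver.toBase n Y = _
      rw [Category.assoc, chartMap, Chow.mkPt_toBase]
      exact congrArg Subtype.val (hΘ2 (u, y))

end Groth.Agent.AnPts
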