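import Groth.Agent.AnPts.Closure
import Groth.Agent.AnPts.Pullback
import Groth.Agent.AnPts.Rational
import Mathlib.AlgebraicGeometry.Morphisms.Finite
import Mathlib.AlgebraicGeometry.Morphisms.QuasiFinite
import Mathlib.Topology.Maps.Proper.Basic

/-!
# Finite morphisms induce proper maps with finite fibres
-/

set_option autoImplicit false

open AlgebraicGeometry CategoryTheory TopologicalSpace Topology Polynomial Filter
open An

namespace Groth.Agent.AnPts

variable {X Y : Scheme.{0}} [X.Over SC] [Y.Over SC]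

set_option backward.isDefEq.respectTransparency.types false in
theorem isProperMap_map_affine [IsAffine Y] [LocallyOfFiniteType (Y ↘ SC)]
    (g : X ⟶ Y) [g.IsOver SC] [IsFinite g] : IsProperMap (Pts.map g) := by
  obtain ⟨hX, hfin⟩ := (HasAffineProperty.iff_of_isAffine (P := @AlgebraicGeometry.IsFinite)).1 (inferInstance : AlgebraicGeometry.IsFinite g)
  haveI := hX
  haveI : LocallyOfFiniteType (X ↘ SC) := by rw [← comp_over g (S := SC)]; infer_instance
  letI alg : Algebra Γ(Y, ⊤) Γ(X, ⊤) := g.appTop.hom.toAlgebra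
  haveI : Module.Finite Γ(Y, ⊤) Γ(X, ⊤) := hfin
  obtain ⟨k, e, he⟩ := Module.Finite.exists_fin (R := Γ(Y, ⊤)) (M := Γ(X, ⊤))
  obtain ⟨n, s, hs⟩ := exists_generators Y
  choose P hP hPe using fun i => Algebra.IsIntegral.isIntegral (R := Γ(Y, ⊤)) (e i)
  let u : Fin (n + k) → Γ(X, ⊤) := Fin.append (fun i => g.appTop (s i)) e
  let ev := MvPolynomial.eval₂Hom (strHom X) u
  have hY : ∀ a, g.appTop a ∈ ev.range := by
    intro a
    obtain ⟨q, rfl⟩ := hs a
    refine ⟨MvPolynomial.rename (Fin.castAdd k) q, ?_⟩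
    refine RingHom.congr_fun (MvPolynomial.ringHom_ext (f := ev.comp (MvPolynomial.rename (Fin.castAdd k)).toRingHom)
      (g := g.appTop.hom.comp (MvPolynomial.eval₂Hom (strHom Y) s)) ?_ ?_) q
    · intro c; simp [ev, strHom_app]
    · intro i; simp [ev, u]
  have hu : Function.Surjective ev := fun a => by
    have ha : a ∈ Submodule.span Γ(Y, ⊤) (Set.range e) := he ▸ Submodule.mem_top
    change a ∈ ev.range
    induction ha using Submodule.span_induction with
    | mem x hx =>
      obtain ⟨i, rfl⟩ := hx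
      exact ⟨MvPolynomial.X (Fin.natAdd n i), by simp [ev, u]⟩
    | zero => exact zero_mem _
    | add x y _ _ hx hy => exact add_mem hx hy
    | smul r x _ hx => exact Algebra.smul_def r x ▸ mul_mem (hY r) hx
  let j : Pts X → Pts Y × (Fin k → ℂ) := fun z => (Pts.map g z, fun i => z.evTop (e i))
  have hj : Continuous j := (Pts.continuous_map g).prodMk (continuous_pi fun i => continuous_evTop (e i))
  let h : Pts Y × (Fin k → ℂ) → (Fin (n + k) → ℂ) := fun p => Fin.append (fun i => p.1.evTop (s i)) p.2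
  have hh : Continuous h := continuous_pi fun i => by
    refine Fin.addCases (fun i => ?_) (fun i => ?_) i
    · simp only [h, Fin.append_left]
      exact (continuous_evTop (s i)).comp continuous_fst
    · simp only [h, Fin.append_right]
      exact (continuous_apply i).comp continuous_snd
  haveI : T2Space (Pts Y) := (isEmbedding_of_generators s hs).1.t2Space
  have hjp : IsProperMap j := by
    refine isProperMap_of_comp_of_t2 hj hh ?_
    convert! (isClosedEmbedding_of_generators u hu).isProperMap using 1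
    funext z i
    refine Fin.addCases (fun i => ?_) (fun i => ?_) i
    · simp [h, j, u, evTop_map]
    · simp [h, j, u]
  refine isProperMap_iff_ultrafilter.2 ⟨Pts.continuous_map g, fun 𝒰 y hy => ?_⟩
  have hlim : ∀ i, ∃ c, Tendsto (fun z : Pts X => z.evTop (e i)) 𝒰 (𝓝 c) := by
    intro i
    let b : Pts Y → ℝ := fun y => 1 + ∑ l ∈ Finset.range (P i).natDegree, ‖y.evTop ((P i).coeff l)‖
    have hb : Continuous b := continuous_const.add (continuous_finsetSum _ fun l _ => (continuous_evTop _).norm)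
    have hbd : ∀ᶠ z in (𝒰 : Filter (Pts X)), z.evTop (e i) ∈ Metric.closedBall (0 : ℂ) (b y + 1) := by
      filter_upwards [hy ((hb.continuousAt (x := y)).eventually_le_const (lt_add_one _))] with z hz
      change b (Pts.map g z) ≤ b y + 1 at hz
      let φ := evHom (Pts.map g z) ⊤ (Opens.mem_top _)
      have h0 : ((P i).map φ).eval (z.evTop (e i)) = 0 := by
        rw [eval_map]
        have h1 := congrArg (evHom z ⊤ (Opens.mem_top _)) (hPe i)
        rw [hom_eval₂, map_zero] at h1
        refine Eq.trans ?_ h1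
        congr 1
      have h2 := norm_root_le _ ((hP i).map φ) h0
      rw [(hP i).natDegree_map] at h2
      rw [mem_closedBall_zero_iff]
      refine le_trans (h2.trans (le_of_eq ?_)) hz
      simp [b, φ, evHom_apply]
    obtain ⟨c, -, hc⟩ := (isCompact_closedBall (0 : ℂ) (b y + 1)).ultrafilter_le_nhds
      (𝒰.map fun z : Pts X => z.evTop (e i)) (le_principal_iff.2 hbd)
    exact ⟨c, hc⟩
  choose c hc using hlim
  obtain ⟨x, hx, hx'⟩ := hjp.ultrafilter_le_nhds_of_tendsto (y := (y, c))
    (show Tendsto j 𝒰 (𝓝 (y, c)) from hy.prodMk_nhds (tendsto_pi_nhds.2 hc))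
  exact ⟨x, congrArg Prod.fst hx, hx'⟩

set_option backward.isDefEq.respectTransparency.types false in
theorem isProperMap_map [LocallyOfFiniteType (Y ↘ SC)] (g : X ⟶ Y) [g.IsOver SC] [IsFinite g] :
    IsProperMap (Pts.map g) := by
  refine isProperMap_iff_ultrafilter.2 ⟨Pts.continuous_map g, fun 𝒰 y hy => ?_⟩
  obtain ⟨_, ⟨(W : Y.Opens), hW, rfl⟩, hyW, -⟩ := Y.isBasis_affineOpens.exists_subset_of_mem_open
    (Set.mem_univ y.pt) isOpen_univ
  let U : X.Opens := g ⁻¹ᵁ W
  letI : (U : Scheme).Over SC := opensOver U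
  letI : (W : Scheme).Over SC := opensOver W
  haveI : U.ι.IsOver SC := ⟨rfl⟩
  haveI : W.ι.IsOver SC := ⟨rfl⟩
  haveI : IsAffine (W : Scheme) := hW
  haveI : LocallyOfFiniteType ((W : Scheme) ↘ SC) := inferInstanceAs (LocallyOfFiniteType (W.ι ≫ Y ↘ SC))
  haveI : AlgebraicGeometry.IsFinite (g ∣_ W) := IsZariskiLocalAtTarget.restrict (P := @AlgebraicGeometry.IsFinite) ‹_› W
  haveI : (g ∣_ W).IsOver SC := ⟨by
    change (g ∣_ W) ≫ W.ι ≫ (Y ↘ SC) = U.ι ≫ (X ↘ SC)
    rw [← Category.assoc, morphismRestrict_ι, Category.assoc, comp_over g]⟩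
  have hmem : ∀ᶠ z in (𝒰 : Filter (Pts X)), z ∈ Set.range (Pts.map U.ι) := by
    filter_upwards [hy ((Pts.isOpen_preimage_pt W).mem_nhds hyW)] with z hz
    change (Pts.map g z).pt ∈ W at hz
    rw [Pts.pt_map] at hz
    rw [range_map_of_isOpenImmersion]
    exact ⟨⟨z.pt, hz⟩, rfl⟩
  have hUe := isOpenEmbedding_map U.ι
  let 𝒱 : Ultrafilter (Pts U) := 𝒰.comap hUe.injective hmem
  have hcomm : ∀ z, Pts.map g (Pts.map U.ι z) = Pts.map W.ι (Pts.map (g ∣_ W) z) := fun z => Subtype.ext (by
    change (z.1 ≫ U.ι) ≫ g = (z.1 ≫ (g ∣_ W)) ≫ W.ι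
    rw [Category.assoc, Category.assoc, morphismRestrict_ι])
  obtain ⟨y', rfl⟩ : y ∈ Set.range (Pts.map W.ι) := by
    rw [range_map_of_isOpenImmersion]
    exact ⟨⟨y.pt, hyW⟩, rfl⟩
  have hv : Tendsto (Pts.map (g ∣_ W)) 𝒱 (𝓝 y') := by
    rw [(isOpenEmbedding_map W.ι).isInducing.tendsto_nhds_iff]
    refine (hy.comp (tendsto_comap : Tendsto (Pts.map U.ι) (comap (Pts.map U.ι) 𝒰) 𝒰)).congr fun z => hcomm z
  obtain ⟨x, hx, hx'⟩ := (isProperMap_map_affine (g ∣_ W)).ultrafilter_le_nhds_of_tendsto hv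
  refine ⟨Pts.map U.ι x, by rw [hcomm, hx], ?_⟩
  have h2 : 𝒱.map (Pts.map U.ι) = 𝒰 := by
    refine Ultrafilter.coe_injective ?_
    exact map_comap_of_mem hmem
  rw [← h2, ← hUe.map_nhds_eq]
  exact Filter.map_mono hx'

theorem finite_preimage_singleton [LocallyOfFiniteType (Y ↘ SC)] (g : X ⟶ Y) [g.IsOver SC] [IsFinite g]
    (y : Pts Y) : (Pts.map g ⁻¹' {y}).Finite := by
  haveI : LocallyOfFiniteType (X ↘ SC) := by rw [← comp_over g (S := SC)]; infer_instance
  refine Set.Finite.subset ((IsFinite.finite_preimage_singleton (f := g) y.pt).preimage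
    (pt_injective (X := X)).injOn) fun x hx => ?_
  change g x.pt = y.pt
  rw [← Pts.pt_map, show Pts.map g x = y from hx]

end Groth.Agent.AnPts
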