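import Groth.Agent.AnPts.ProjSpace
import Groth.Agent.AnPts.ProperFinite
import Groth.Agent.Chow.Main
import Mathlib.AlgebraicGeometry.ZariskisMainTheorem

/-!
# Properness on complex points
-/

set_option autoImplicit false

open AlgebraicGeometry CategoryTheory Limits TopologicalSpace Topology Filter
open An

namespace Groth.Agent.AnPts

variable {X Y : Scheme.{0}} [X.Over SC] [Y.Over SC]

theorem isProperMap_iff_restrict (g : X ⟶ Y) [g.IsOver SC] :
    IsProperMap (Pts.map g) ↔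
      ∀ (W : Y.Opens), IsAffineOpen W → ∀ [(W : Scheme).Over SC] [W.ι.IsOver SC]
        [(g ⁻¹ᵁ W : Scheme).Over SC] [(g ⁻¹ᵁ W).ι.IsOver SC] [(g ∣_ W).IsOver SC],
        IsProperMap (Pts.map (g ∣_ W)) := by
  constructor
  · intro h W hW _ _ _ _ _
    refine isProperMap_iff_ultrafilter.2 ⟨Pts.continuous_map _, fun 𝒱 y' hv => ?_⟩
    have hcomm : ∀ z, Pts.map g (Pts.map (g ⁻¹ᵁ W).ι z) = Pts.map W.ι (Pts.map (g ∣_ W) z) := fun z => Subtype.ext (by
      change (z.1 ≫ (g ⁻¹ᵁ W).ι) ≫ g = (z.1 ≫ (g ∣_ W)) ≫ W.ι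
      rw [Category.assoc, Category.assoc, morphismRestrict_ι])
    have h2 : Tendsto (Pts.map g) (𝒱.map (Pts.map (g ⁻¹ᵁ W).ι)) (𝓝 (Pts.map W.ι y')) := by
      refine tendsto_map'_iff.2 ?_
      exact (((Pts.continuous_map W.ι).tendsto y').comp hv).congr fun z => (hcomm z).symm
    obtain ⟨x, hx, hx'⟩ := h.ultrafilter_le_nhds_of_tendsto h2
    obtain ⟨x', rfl⟩ : x ∈ Set.range (Pts.map (g ⁻¹ᵁ W).ι) := by
      rw [range_map_of_isOpenImmersion]
      have h3 : g x.pt ∈ W := by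
        rw [← Pts.pt_map, hx, Pts.pt_map]
        exact y'.pt.2
      exact ⟨⟨x.pt, h3⟩, rfl⟩
    refine ⟨x', (isOpenEmbedding_map W.ι).injective (by rw [← hcomm, hx]), ?_⟩
    rw [(isOpenEmbedding_map (g ⁻¹ᵁ W).ι).isInducing.nhds_eq_comap]
    exact map_le_iff_le_comap.1 hx'
  · intro h
    refine isProperMap_iff_ultrafilter.2 ⟨Pts.continuous_map g, fun 𝒰 y hy => ?_⟩
    obtain ⟨_, ⟨(W : Y.Opens), hW, rfl⟩, hyW, -⟩ := Y.isBasis_affineOpens.exists_subset_of_mem_open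
      (Set.mem_univ y.pt) isOpen_univ
    let U : X.Opens := g ⁻¹ᵁ W
    letI : (U : Scheme).Over SC := opensOver U
    letI : (W : Scheme).Over SC := opensOver W
    haveI : U.ι.IsOver SC := ⟨rfl⟩
    haveI : W.ι.IsOver SC := ⟨rfl⟩
    haveI : (g ∣_ W).IsOver SC := ⟨by
      change (g ∣_ W) ≫ W.ι ≫ (Y ↘ SC) = U.ι ≫ (X ↘ SC)
      rw [← Category.assoc, morphismRestrict_ι, Category.assoc, comp_over g]⟩
    have hmem : ∀ᶠ z in (𝒰 : Filter (Pts X)), z ∈ Set.range (Pts.map U.ι) := by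
      filter_upwards [hy ((Pts.isOpen_preimage_pt W).mem_nhds hyW)] with z hz
      change (Pts.map g z).pt ∈ W at hz
      rw [Pts.pt_map] at hz
      rw [range_map_of_isOpenImmersion]
      exact ⟨⟨z.pt, hz⟩, rfl⟩
    have hUe := isOpenEmbedding_map U.ι
    let 𝒱 : Ultrafilter (Pts U) := 𝒰.comap hUe.injective hmem
    have hcomm : ∀ z, Pts.map g (Pts.map U.ι z) = Pts.map W.ι (Pts.map (g ∣_ W) z) := fun z => Subtype.ext (by
      change (z.1 ≫ U.ι) ≫ g = (z.1 ≫ (g ∣_ W)) ≫ W.ι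
      rw [Category.assoc, Category.assoc, morphismRestrict_ι])
    obtain ⟨y', rfl⟩ : y ∈ Set.range (Pts.map W.ι) := by
      rw [range_map_of_isOpenImmersion]
      exact ⟨⟨y.pt, hyW⟩, rfl⟩
    have hv : Tendsto (Pts.map (g ∣_ W)) 𝒱 (𝓝 y') := by
      rw [(isOpenEmbedding_map W.ι).isInducing.tendsto_nhds_iff]
      refine (hy.comp (tendsto_comap : Tendsto (Pts.map U.ι) (comap (Pts.map U.ι) 𝒰) 𝒰)).congr fun z => hcomm z
    obtain ⟨x, hx, hx'⟩ := (h W hW).ultrafilter_le_nhds_of_tendsto hv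
    refine ⟨Pts.map U.ι x, by rw [hcomm, hx], ?_⟩
    have h2 : 𝒱.map (Pts.map U.ι) = 𝒰 := Ultrafilter.coe_injective (map_comap_of_mem hmem)
    rw [← h2, ← hUe.map_nhds_eq]
    exact Filter.map_mono hx'

theorem isSeparatedMap_SC [LocallyOfFiniteType (X ↘ SC)] (h : IsSeparated (X ↘ SC)) : T2Space (Pts X) := by
  haveI : (X ↘ SC).IsOver SC := ⟨Category.comp_id _⟩
  haveI := subsingleton_pts_SC
  have h' := (isSeparated_iff (X ↘ SC)).1 h
  exact ⟨fun x y hne => h' x y (Subsingleton.elim _ _) hne⟩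

theorem isProperMap_of_isProper_affine [IsAffine Y] [LocallyOfFiniteType (Y ↘ SC)]
    (f : X ⟶ Y) [f.IsOver SC] [IsProper f] : IsProperMap (Pts.map f) := by
  haveI : LocallyOfFiniteType (X ↘ SC) := by rw [← comp_over f (S := SC)]; infer_instance
  haveI : IsLocallyNoetherian Y := LocallyOfFiniteType.isLocallyNoetherian (Y ↘ SC)
  haveI : IsNoetherian Y := {}
  haveI := locallyOfFiniteType_of_over f
  obtain ⟨n, X', π, j, hj, hcomm, hπ, hπs, -⟩ := Chow.chow f
  letI : (CohB1.ProjSpaceOver n Y).Over SC := projOver Y n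
  haveI : (CohB1.ProjSpaceOver.toBase n Y).IsOver SC := ⟨rfl⟩
  letI : X'.Over SC := ⟨π ≫ X ↘ SC⟩
  haveI : π.IsOver SC := ⟨rfl⟩
  haveI : j.IsOver SC := ⟨by
    change j ≫ CohB1.ProjSpaceOver.toBase n Y ≫ Y ↘ SC = π ≫ X ↘ SC
    rw [← Category.assoc, hcomm, Category.assoc, comp_over f]⟩
  haveI : LocallyOfFiniteType (X' ↘ SC) := inferInstanceAs (LocallyOfFiniteType (π ≫ X ↘ SC))
  haveI : IsProper (CohB1.ProjSpaceOver.toBase n Y) := ProjProper.Basic.isProper_toBase n Y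
  haveI : LocallyOfFiniteType ((CohB1.ProjSpaceOver n Y) ↘ SC) :=
    inferInstanceAs (LocallyOfFiniteType (CohB1.ProjSpaceOver.toBase n Y ≫ Y ↘ SC))
  have hmapc : ∀ z, Pts.map f (Pts.map π z) = Pts.map (CohB1.ProjSpaceOver.toBase n Y) (Pts.map j z) := fun z =>
    Subtype.ext (by
      change (z.1 ≫ π) ≫ f = (z.1 ≫ j) ≫ CohB1.ProjSpaceOver.toBase n Y
      rw [Category.assoc, Category.assoc, hcomm])
  have hB := isProperMap_toBase (Y := Y) n
  have hsurj : Function.Surjective (Pts.map π) := by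
    rw [← Set.range_eq_univ, range_map_eq, hπs.surj.range_eq, Set.preimage_univ]
  haveI : IsProper (j ≫ CohB1.ProjSpaceOver.toBase n Y) := by rw [hcomm]; infer_instance
  haveI : IsProper j := IsProper.of_comp j (CohB1.ProjSpaceOver.toBase n Y)
  haveI : IsClosedImmersion j :=
    IsClosedImmersion.iff_isPreimmersion.2 ⟨inferInstance, j.isClosedMap.isClosed_range⟩
  have h1 : IsProperMap (Pts.map f ∘ Pts.map π) := by
    rw [show Pts.map f ∘ Pts.map π = Pts.map (CohB1.ProjSpaceOver.toBase n Y) ∘ Pts.map j from funext hmapc]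
    exact hB.comp (isClosedEmbedding_map j).isProperMap
  exact isProperMap_of_comp_of_surj (Pts.continuous_map π) (Pts.continuous_map f) h1 hsurj

theorem isProperMap_of_isProper [LocallyOfFiniteType (Y ↘ SC)] (f : X ⟶ Y) [f.IsOver SC] [IsProper f] :
    IsProperMap (Pts.map f) := by
  refine (isProperMap_iff_restrict f).2 fun W hW _ _ _ _ _ => ?_
  haveI : IsAffine (W : Scheme) := hW
  haveI : LocallyOfFiniteType ((W : Scheme) ↘ SC) := by rw [← comp_over W.ι (S := SC)]; infer_instance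
  exact isProperMap_of_isProper_affine (f ∣_ W)

theorem isProper_of_isProperMap_affine [IsAffine Y] [LocallyOfFiniteType (Y ↘ SC)]
    [LocallyOfFiniteType (X ↘ SC)] (f : X ⟶ Y) [f.IsOver SC] [QuasiCompact f] [IsSeparated f]
    (hf : IsProperMap (Pts.map f)) : IsProper f := by
  haveI : IsLocallyNoetherian Y := LocallyOfFiniteType.isLocallyNoetherian (Y ↘ SC)
  haveI : IsNoetherian Y := {}
  haveI := locallyOfFiniteType_of_over f
  obtain ⟨n, X', π, j, hj, hcomm, hπ, hπs, -⟩ := Chow.chow f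
  letI : (CohB1.ProjSpaceOver n Y).Over SC := projOver Y n
  haveI : (CohB1.ProjSpaceOver.toBase n Y).IsOver SC := ⟨rfl⟩
  letI : X'.Over SC := ⟨π ≫ X ↘ SC⟩
  haveI : π.IsOver SC := ⟨rfl⟩
  haveI : j.IsOver SC := ⟨by
    change j ≫ CohB1.ProjSpaceOver.toBase n Y ≫ Y ↘ SC = π ≫ X ↘ SC
    rw [← Category.assoc, hcomm, Category.assoc, comp_over f]⟩
  haveI : LocallyOfFiniteType (X' ↘ SC) := inferInstanceAs (LocallyOfFiniteType (π ≫ X ↘ SC))
  haveI : IsProper (CohB1.ProjSpaceOver.toBase n Y) := ProjProper.Basic.isProper_toBase n Y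
  haveI : LocallyOfFiniteType ((CohB1.ProjSpaceOver n Y) ↘ SC) :=
    inferInstanceAs (LocallyOfFiniteType (CohB1.ProjSpaceOver.toBase n Y ≫ Y ↘ SC))
  have hmapc : ∀ z, Pts.map f (Pts.map π z) = Pts.map (CohB1.ProjSpaceOver.toBase n Y) (Pts.map j z) := fun z =>
    Subtype.ext (by
      change (z.1 ≫ π) ≫ f = (z.1 ≫ j) ≫ CohB1.ProjSpaceOver.toBase n Y
      rw [Category.assoc, Category.assoc, hcomm])
  have hB := isProperMap_toBase (Y := Y) n
  have hπp : IsProperMap (Pts.map π) := isProperMap_of_isProper π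
  haveI : IsSeparated (CohB1.ProjSpaceOver n Y ↘ SC) :=
    inferInstanceAs (IsSeparated (CohB1.ProjSpaceOver.toBase n Y ≫ Y ↘ SC))
  haveI : T2Space (Pts (CohB1.ProjSpaceOver n Y)) := isSeparatedMap_SC inferInstance
  have hjp : IsProperMap (Pts.map j) := by
    refine isProperMap_of_comp_of_t2 (Pts.continuous_map j) (Pts.continuous_map (CohB1.ProjSpaceOver.toBase n Y)) ?_
    rw [← show Pts.map f ∘ Pts.map π = Pts.map (CohB1.ProjSpaceOver.toBase n Y) ∘ Pts.map j from funext hmapc]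
    exact hf.comp hπp
  have hloc : IsLocallyConstructible (Set.range j) := by
    obtain ⟨U, Z, hU, hZ, hUZ⟩ := j.isLocallyClosed_range
    rw [hUZ, ← compl_compl U]
    exact (isLocallyConstructible_compl (isLocallyConstructible_of_isClosed hU.isClosed_compl)).inter
      (isLocallyConstructible_of_isClosed hZ)
  haveI : IsClosedImmersion j := IsClosedImmersion.iff_isPreimmersion.2 ⟨inferInstance, by
    rw [isClosed_iff hloc, ← range_map_eq]
    exact hjp.isClosedMap.isClosed_range⟩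
  haveI : IsProper (π ≫ f) := by rw [← hcomm]; infer_instance
  haveI : UniversallyClosed f := UniversallyClosed.of_comp_surjective π f
  exact {}

theorem isProper_iff [LocallyOfFiniteType (X ↘ SC)] [LocallyOfFiniteType (Y ↘ SC)]
    (f : X ⟶ Y) [f.IsOver SC] [QuasiCompact f] :
    IsProper f ↔ IsProperMap (Pts.map f) ∧ IsSeparatedMap (Pts.map f) := by
  refine ⟨fun h => ⟨isProperMap_of_isProper f, (isSeparated_iff f).1 inferInstance⟩, fun ⟨hp, hs⟩ => ?_⟩
  haveI : IsSeparated f := (isSeparated_iff f).2 hs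
  refine IsZariskiLocalAtTarget.of_iSup_eq_top (P := @IsProper) (fun W : Y.affineOpens => W.1)
    (iSup_affineOpens_eq_top Y) fun W => ?_
  haveI : IsAffine (W.1 : Scheme) := W.2
  letI : (f ⁻¹ᵁ W.1 : Scheme).Over SC := opensOver (f ⁻¹ᵁ W.1)
  letI : (W.1 : Scheme).Over SC := opensOver W.1
  haveI : W.1.ι.IsOver SC := ⟨rfl⟩
  haveI : (f ⁻¹ᵁ W.1).ι.IsOver SC := ⟨rfl⟩
  haveI : LocallyOfFiniteType ((W.1 : Scheme) ↘ SC) := inferInstanceAs (LocallyOfFiniteType (W.1.ι ≫ Y ↘ SC))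
  haveI : LocallyOfFiniteType ((f ⁻¹ᵁ W.1 : Scheme) ↘ SC) :=
    inferInstanceAs (LocallyOfFiniteType ((f ⁻¹ᵁ W.1).ι ≫ X ↘ SC))
  haveI : (f ∣_ W.1).IsOver SC := ⟨by
    change (f ∣_ W.1) ≫ W.1.ι ≫ (Y ↘ SC) = (f ⁻¹ᵁ W.1).ι ≫ (X ↘ SC)
    rw [← Category.assoc, morphismRestrict_ι, Category.assoc, comp_over f]⟩
  haveI : IsSeparated (f ∣_ W.1) := IsZariskiLocalAtTarget.restrict (P := @IsSeparated) ‹_› W.1
  exact isProper_of_isProperMap_affine (f ∣_ W.1) ((isProperMap_iff_restrict f).1 hp W.1 W.2)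

theorem isFinite_iff [LocallyOfFiniteType (X ↘ SC)] [LocallyOfFiniteType (Y ↘ SC)]
    (f : X ⟶ Y) [f.IsOver SC] [QuasiCompact f] :
    AlgebraicGeometry.IsFinite f ↔ IsProperMap (Pts.map f) ∧ IsSeparatedMap (Pts.map f) ∧
      ∀ y : Pts Y, (Pts.map f ⁻¹' {y}).Finite := by
  refine ⟨fun _ => ⟨isProperMap_map f, (isSeparated_iff f).1 inferInstance,
    fun y => finite_preimage_singleton f y⟩, fun ⟨hp, hs, hfin⟩ => ?_⟩
  haveI : IsProper f := (isProper_iff f).2 ⟨hp, hs⟩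
  haveI := locallyOfFiniteType_of_over f
  haveI : JacobsonSpace X := LocallyOfFiniteType.jacobsonSpace (X ↘ SC)
  have hqf : ∀ x, f.QuasiFiniteAt x := by
    by_contra hne
    obtain ⟨x, hx⟩ := exists_pts_of_isLocallyClosed (Z := (f.quasiFiniteLocus : Set X)ᶜ)
      (Set.nonempty_compl.2 fun h => hne fun x => (Scheme.Hom.mem_quasiFiniteLocus (f := f)).1 (h.ge (Set.mem_univ x)))
      f.quasiFiniteLocus.isOpen.isClosed_compl.isLocallyClosed
    refine hx ((Scheme.Hom.mem_quasiFiniteLocus (f := f)).2 (Scheme.Hom.quasiFiniteAt_iff_isOpen_singleton_asFiber.2 ?_))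
    have hF : IsClosed (f ⁻¹' {f x.pt}) := by
      rw [← Pts.pt_map f x]
      exact (isClosed_pt (Pts.map f x)).preimage f.continuous
    let A : Set X := Pts.pt '' (Pts.map f ⁻¹' {Pts.map f x})
    have hA : A.Finite := (hfin _).image _
    have hAc : IsClosed A := by
      rw [← Set.biUnion_of_singleton A]
      exact hA.isClosed_biUnion fun a ⟨z, _, hz⟩ => hz ▸ isClosed_pt z
    have hFA : f ⁻¹' {f x.pt} ⊆ A := fun p hp => by
      by_contra hpA
      obtain ⟨z, hzF, hzA⟩ := exists_pts_of_isLocallyClosed (Z := f ⁻¹' {f x.pt} ∩ Aᶜ) ⟨p, hp, hpA⟩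
        (hF.isLocallyClosed.inter hAc.isOpen_compl.isLocallyClosed)
      refine hzA ⟨z, pt_injective ?_, rfl⟩
      rw [Pts.pt_map, Pts.pt_map]
      exact hzF
    haveI : Finite (f ⁻¹' {f x.pt}) := (hA.subset hFA).to_subtype
    haveI : T1Space (f ⁻¹' {f x.pt}) := ⟨fun q => by
      obtain ⟨z, -, hz⟩ := hFA q.2
      have h : IsClosed (Subtype.val ⁻¹' {q.1} : Set (f ⁻¹' {f x.pt})) :=
        IsClosed.preimage continuous_subtype_val (hz ▸ isClosed_pt z)
      convert! h using 1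
      ext w
      exact Subtype.ext_iff⟩
    haveI : DiscreteTopology (f ⁻¹' {f x.pt}) := inferInstance
    exact ((f.fiberHomeo (f x.pt)).isOpen_preimage).2 (isOpen_discrete {⟨x.pt, rfl⟩}) |> fun h => by
      convert! h using 1
      ext q
      simp [Scheme.Hom.asFiber, Homeomorph.eq_symm_apply]
  haveI : LocallyQuasiFinite f := locallyQuasiFinite_iff_isDiscrete_preimage_singleton.2 fun y => by
    refine ⟨discreteTopology_iff_isOpen_singleton.2 fun ⟨q, (hq : f q = y)⟩ => ?_⟩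
    subst hq
    have h := Scheme.Hom.quasiFiniteAt_iff_isOpen_singleton_asFiber.1 (hqf q)
    rw [← (f.fiberHomeo (f q)).isOpen_preimage]
    convert! h using 1
    ext w
    simp [Scheme.Hom.asFiber, Homeomorph.eq_symm_apply]
  exact IsFinite.of_isProper_of_locallyQuasiFinite f

end Groth.Agent.AnPts
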